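import Groth.Agent.Gerb.K894.Prop
import Groth.Agent.S10548
import Groth.Agent.S10549
import Groth.Agent.S10550
import Groth.Agent.S10567

/-!
# Flat, locally of finite presentation, locally of finite type are smooth local on source-and-target (helper894)
-/

set_option autoImplicit false
set_option backward.isDefEq.respectTransparency false
set_option backward.isDefEq.respectTransparency.types false

universe u

open CategoryTheory CategoryTheory.Limits AlgebraicGeometry Opposite

namespace K894.SmST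

open K894.GoodP

variable {S : Scheme.{u}}

theorem isFppfCover_of_isSmCover {ι : Type u} {X : AlgSp.Sp S} {Y : ι → AlgSp.Sp S} {g : ∀ i, Y i ⟶ X}
    (h : AlgSp.IsSmCover Y g) : AlgSp.IsFppfCover Y g :=
  ⟨fun i => ⟨K597.locP_mono (good_flat S).smooth (h.1 i), K597.locP_mono (good_lfp S).smooth (h.1 i)⟩, h.2⟩

theorem isLocalOnSource_smooth {P : MorphismProperty (AlgSp.Sp S)}
    (h : AlgSp.IsLocalOnSource (AlgSp.IsFppfCover (S := S)) P) : AlgSp.IsLocalOnSource (AlgSp.IsSmCover (S := S)) P :=
  fun _ _ Xi g hX hXi hg _ f hY => h Xi g hX hXi (isFppfCover_of_isSmCover hg) f hY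

theorem isLocalOnSource_fppf_of_fpqc {P : MorphismProperty (AlgSp.Sp S)}
    (h : AlgSp.IsLocalOnSource (AlgSp.IsFpqcCover (S := S)) P) :
    AlgSp.IsLocalOnSource (AlgSp.IsFppfCover (S := S)) P := by
  intro ι X Xi g hX hXi hg Y f hY
  exact h Xi g hX hXi (Groth.Agent.S10505.result ⟨X, hX⟩ (fun i => ⟨Xi i, hXi i⟩)
    (fun i => ObjectProperty.homMk (g i)) hg) f hY

theorem isLocalOnBase_smooth {P : MorphismProperty (AlgSp.Sp S)}
    (h : AlgSp.IsLocalOnBase (AlgSp.IsFppfCover (S := S)) P) : AlgSp.IsLocalOnBase (AlgSp.IsSmCover (S := S)) P :=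
  fun _ _ Yi g hY hYi hg _ f hX Xi p q hXi sq => h Yi g hY hYi (isFppfCover_of_isSmCover hg) f hX Xi p q hXi sq

theorem isSmoothLocalST_of_good {P : MorphismProperty Scheme.{u}} (hP : Good S P)
    (h : AlgSp.IsLocalOnSource (AlgSp.IsFppfCover (S := S)) (AlgSp.LocP P)) :
    AlgSp.IsSmoothLocalST (AlgSp.LocP (S := S) P) :=
  Groth.Agent.S10567.result _ (isLocalOnSource_smooth h) (isLocalOnBase_smooth hP.loc)
    (fun {X Y Z} f g hf hg => hP.comp X.property Y.property Z.property _ _ hf (K597.locP_mono hP.smooth hg))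

theorem isSmoothLocalST_flat : AlgSp.IsSmoothLocalST (AlgSp.LocP (S := S) @Flat) :=
  isSmoothLocalST_of_good (good_flat S) (isLocalOnSource_fppf_of_fpqc (Groth.Agent.S10548.result S))

theorem isSmoothLocalST_lfp : AlgSp.IsSmoothLocalST (AlgSp.LocP (S := S) @LocallyOfFinitePresentation) :=
  isSmoothLocalST_of_good (good_lfp S) (Groth.Agent.S10549.result S)

theorem isSmoothLocalST_lft : AlgSp.IsSmoothLocalST (AlgSp.LocP (S := S) @LocallyOfFiniteType) :=
  isSmoothLocalST_of_good (good_lft S) (Groth.Agent.S10550.result S)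

end K894.SmST
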