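import Groth.Agent.Gerb.K894.Prop
import Groth.Agent.AlgSt.K734.IsoPsh
import Groth.Agent.AlgSp.K613.Chart
import Groth.Agent.AlgSt.K742.RepComp

/-!
# Base change of `RepOver` (helper894)

`exists_rep_bc`: for `a : ofSp F ≃ 𝒲`, `w : 𝒲 ⟶ (Sch/U)` and `y : (Sch/V) ⟶ (Sch/U)`, every pullback
`G = h_V ×_{h_U} F` represents `fp y w`.
`repByAlgSpWith_of_repOver`: a functor to a slice which is representable by an algebraic space with `P` is
`RepByAlgSpWith P`.
-/

set_option autoImplicit false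
set_option backward.isDefEq.respectTransparency false
set_option backward.isDefEq.respectTransparency.types false

universe v₃ u₃ v₂ u₂ v u

open CategoryTheory CategoryTheory.Limits AlgebraicGeometry Opposite K735.Fib K735.Fp K735.Rep

namespace K894.BCRep

open K894.GoodP

variable {S : Scheme.{u}} {𝒲 : BasedCategory.{v₂, u₂} (Over S)}

theorem exists_rep_bc {U V : Over S} (w : 𝒲 ⥤ᵇ FibCat.overCat U) {F : AlgSp.Sp S} (a : AlgSt.ofSp F ⥤ᵇ 𝒲)
    (ha : FibCat.IsEquivOver a) (y : FibCat.overCat V ⥤ᵇ FibCat.overCat U) {G : AlgSp.Sp S}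
    (fst : G ⟶ (AlgSp.yon S).obj V) (snd : G ⟶ F)
    (sq : IsPullback fst snd (AlgSt.spMapOfOver (BasedFunctor.comp (AlgSt.toOverCat V) y))
      (AlgSt.spMapOfOver (BasedFunctor.comp a w))) :
    ∃ b : AlgSt.ofSp G ⥤ᵇ FibCat.fp y w, FibCat.IsEquivOver b ∧
      AlgSt.spMapOfOver (BasedFunctor.comp b (FibCat.fpFst y w)) = fst ∧
      BasedFunctor.comp b (FibCat.fpSnd y w) = BasedFunctor.comp (AlgSt.ofSpMap snd) a := by
  obtain ⟨e₁⟩ := exists_iso_spMapOfOver (BasedFunctor.comp (AlgSt.toOverCat V) y)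
  obtain ⟨e₂⟩ := exists_iso_spMapOfOver (BasedFunctor.comp a w)
  set τ := AlgSt.spMapOfOver (BasedFunctor.comp (AlgSt.toOverCat V) y)
  set q := AlgSt.spMapOfOver (BasedFunctor.comp a w)
  have sq' : IsPullback fst.hom snd.hom τ.hom q.hom := sq.map (sheafToPresheaf _ _)
  have hw : AlgSt.ofSpMap (fst ≫ τ) = AlgSt.ofSpMap (snd ≫ q) := by rw [sq.w]
  let e : BasedFunctor.comp (Stk.ofPshMap fst.hom) (Stk.ofPshMap τ.hom) ≅
      BasedFunctor.comp (Stk.ofPshMap snd.hom) (Stk.ofPshMap q.hom) := eqToIso hw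
  have h1 := K734.Fib.isEquivOver_fp_ofPsh sq' e
  refine ⟨BasedFunctor.comp (FibCat.fpLift (Stk.ofPshMap fst.hom) (Stk.ofPshMap snd.hom) e)
    (fpMap (Stk.ofPshMap τ.hom) (Stk.ofPshMap q.hom) y w (AlgSt.toOverCat V) a (AlgSt.toOverCat U) e₁ e₂),
    IsEquivOver.comp h1 (isEquivOver_fpMap' _ _ _ _ _ _ _ _ _ (isEquivOver_toOverCat V) ha (isEquivOver_toOverCat U)), ?_, rfl⟩
  exact spMapOfOver_ofSpMap_toOverCat fst

/-- The base change of a representable functor to a slice along a functor of slices. -/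
theorem repByAlgSpWith_of_repOver {P : MorphismProperty (AlgSp.Sp S)} (hP : BC P) {U : Over S}
    {w : 𝒲 ⥤ᵇ FibCat.overCat U} (h : RepOver P w) : AlgSt.RepByAlgSpWith P w := by
  obtain ⟨F, a, ha, hPa⟩ := h
  intro V y
  have sq := IsPullback.of_hasPullback (AlgSt.spMapOfOver (BasedFunctor.comp (AlgSt.toOverCat V) y))
    (AlgSt.spMapOfOver (BasedFunctor.comp a w))
  have hG := K613.Chart.isAlgSpace_pullback (AlgSp.IsAlgSpace.yon_obj V) F.property (AlgSp.IsAlgSpace.yon_obj U)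
    (AlgSt.spMapOfOver (BasedFunctor.comp (AlgSt.toOverCat V) y)) (AlgSt.spMapOfOver (BasedFunctor.comp a w))
  obtain ⟨b, hb, h1, -⟩ := exists_rep_bc w a ha y _ _ sq
  refine ⟨⟨_, hG⟩, b, hb, ?_⟩
  rw [h1]
  exact hP F.property (AlgSp.IsAlgSpace.yon_obj U) hG (AlgSp.IsAlgSpace.yon_obj V) _ _ _ _ sq.flip hPa

/-- A `RepByAlgSpWith P` functor to a slice is representable with `P`. -/
theorem repOver_of_repByAlgSpWith {P : MorphismProperty (AlgSp.Sp S)} {U : Over S}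
    {w : 𝒲 ⥤ᵇ FibCat.overCat U} (h : AlgSt.RepByAlgSpWith P w) : RepOver P w := by
  have h1 : RepOver P (FibCat.fpFst (BasedFunctor.id (FibCat.overCat U)) w) := h U (BasedFunctor.id _)
  refine h1.of_equiv (FibCat.fpSnd (BasedFunctor.id (FibCat.overCat U)) w) ?_ (FibCat.fpIso _ _).symm
  refine isEquivOver_of ?_ ?_ ?_
  · intro x y φ ψ hh
    refine fp_hom_ext ?_ hh
    have h1 := fp_w φ
    have h2 := fp_w ψ
    rw [show φ.hom.snd = ψ.hom.snd from hh] at h1
    exact (cancel_mono y.obj.iso.hom).1 (h1.trans h2.symm)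
  · intro x y φ
    refine ⟨homFp (x.obj.iso.hom ≫ w.map φ ≫ y.obj.iso.inv) φ ?_, rfl⟩
    change (x.obj.iso.hom ≫ w.map φ ≫ y.obj.iso.inv) ≫ y.obj.iso.hom = x.obj.iso.hom ≫ w.map φ
    rw [Category.assoc, Category.assoc, Iso.inv_hom_id, Category.comp_id]
  · intro z
    refine ⟨mkFp (BasedFunctor.id (FibCat.overCat U)) w (w.obj z) z (Iso.refl _) (vert_id _), Iso.refl _, vert_id _⟩

theorem repByAlgSpWith_iff_repOver {P : MorphismProperty (AlgSp.Sp S)} (hP : BC P) {U : Over S}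
    {w : 𝒲 ⥤ᵇ FibCat.overCat U} : AlgSt.RepByAlgSpWith P w ↔ RepOver P w :=
  ⟨repOver_of_repByAlgSpWith, repByAlgSpWith_of_repOver hP⟩

end K894.BCRep
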