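import Groth.Agent.Gerb.K894.BCRep
import Groth.Agent.AlgSp.K594.Cover
import Groth.Agent.AlgSp.K629.Basic
import Groth.Agent.AlgSt.K734.FibFp
import Groth.Prelude.Def_AlgSt3

/-!
# fppf locality of `RepOver P`, `RepByAlgSpWith P` (helper894)
-/

set_option autoImplicit false
set_option backward.isDefEq.respectTransparency false
set_option backward.isDefEq.respectTransparency.types false

universe v₄ u₄ v₃ u₃ v₂ u₂ v u

open CategoryTheory CategoryTheory.Limits AlgebraicGeometry Opposite K735.Fib K735.Fp K735.Rep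

namespace K894.Loc

open K894.GoodP K894.BCRep K594.Cover

variable {S : Scheme.{u}} {𝒲 : BasedCategory.{v₂, u₂} (Over S)}

/-- For `P` stable under base change, every representation has `P` as soon as one has. -/
theorem of_rep {P : MorphismProperty (AlgSp.Sp S)} (hP : BC P) {U : Over S} {w : 𝒲 ⥤ᵇ FibCat.overCat U}
    (h : RepOver P w) {G : AlgSp.Sp S} (e' : AlgSt.ofSp G ⥤ᵇ 𝒲) (he' : FibCat.IsEquivOver e') :
    AlgSp.IsAlgSpace G ∧ P (AlgSt.spMapOfOver (BasedFunctor.comp e' w)) := by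
  obtain ⟨F, e, he, hPF⟩ := h
  obtain ⟨i, ⟨j⟩⟩ := exists_iso_of_rep e e' he he'
  have hG : AlgSp.IsAlgSpace G := F.property.of_iso i
  refine ⟨hG, ?_⟩
  have h1 : AlgSt.spMapOfOver (BasedFunctor.comp e w) = i.hom ≫ AlgSt.spMapOfOver (BasedFunctor.comp e' w) := by
    rw [← spMapOfOver_comp_ofSpMap]
    exact spMapOfOver_eq_of_iso (whiskerRightIso j.symm w)
  refine hP F.property (AlgSp.IsAlgSpace.yon_obj U) hG (AlgSp.IsAlgSpace.yon_obj U)
    (AlgSt.spMapOfOver (BasedFunctor.comp e w)) (𝟙 _) _ i.inv ?_ hPF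
  refine IsPullback.of_horiz_isIso ⟨?_⟩
  rw [h1, Iso.inv_hom_id_assoc, Category.comp_id]

theorem locP_yon {P : MorphismProperty Scheme.{u}} (hP : K597.EtLoc P) [P.IsStableUnderBaseChange]
    {T U : Over S} (s : T ⟶ U) (h : P s.left) : AlgSp.LocP P ((AlgSp.yon S).map s) :=
  K597.locP_of_repWith hP.precomp ((AlgSp.repWith_yon_map_iff P s).2 h)

/-- An fppf family of schemes is an fppf cover of `h_U`. -/
theorem isFppfCover_of_fam {U : Over S} {ι : Type u} {V : ι → Over S} {g : ∀ i, V i ⟶ U} (hg : Fam g) :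
    AlgSp.IsFppfCover (fun i => (AlgSp.yon S).obj (V i)) (fun i => (AlgSp.yon S).map (g i)) := by
  refine ⟨fun i => ⟨locP_yon K597.etLoc_flat _ (hg.flat i), locP_yon K597.etLoc_lfp _ (hg.lfp i)⟩, fun x => ?_⟩
  obtain ⟨t, rfl⟩ := K629.Basic.ofPt_surjective (p := 𝟙 ((AlgSp.yon S).obj U)) (AlgSp.repWith_id _ _) x
  obtain ⟨i, v, hv⟩ := hg.surj t
  refine ⟨i, AlgSp.Points.ofPt (𝟙 _) v, ?_⟩
  rw [AlgSp.Points.map_ofPt, Category.id_comp, ← hv, ← K629.Basic.ofPt_comp, Category.comp_id]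

/-- Locality of `RepOver P` over a covering family. -/
theorem repOver_of_fam {P : MorphismProperty (AlgSp.Sp S)} (hP : AlgSp.IsLocalOnBase AlgSp.IsFppfCover P)
    (hBC : BC P) {U : Over S} {w : 𝒲 ⥤ᵇ FibCat.overCat U} (hw : AlgSt.RepByAlgSp 𝒲)
    {ι : Type u} {V : ι → Over S} {g : ∀ i, V i ⟶ U} (hg : Fam g)
    (h : ∀ i, RepOver P (FibCat.fpFst (AlgSt.overMap (g i)) w)) : RepOver P w := by
  obtain ⟨F, a, ha⟩ := hw
  refine ⟨F, a, ha, ?_⟩
  have hτ : ∀ i, AlgSt.spMapOfOver (BasedFunctor.comp (AlgSt.toOverCat (V i)) (AlgSt.overMap (g i))) =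
      (AlgSp.yon S).map (g i) := fun i => by
    apply ObjectProperty.hom_ext
    apply NatTrans.ext
    funext T
    ext x
    apply ULift.ext
    change eqToHom _ ≫ (x.down ≫ g i) = x.down ≫ g i
    simp
  have key : ∀ i, ∃ (G : AlgSp.Sp S) (fst : G ⟶ (AlgSp.yon S).obj (V i)) (snd : G ⟶ F.obj), AlgSp.IsAlgSpace G ∧
      IsPullback snd fst (AlgSt.spMapOfOver (BasedFunctor.comp a w)) ((AlgSp.yon S).map (g i)) ∧ P fst := fun i => by
    have sq := IsPullback.of_hasPullback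
      (AlgSt.spMapOfOver (BasedFunctor.comp (AlgSt.toOverCat (V i)) (AlgSt.overMap (g i))))
      (AlgSt.spMapOfOver (BasedFunctor.comp a w))
    obtain ⟨b, hb, h1, -⟩ := exists_rep_bc w a ha (AlgSt.overMap (g i)) _ _ sq
    obtain ⟨hG, hPG⟩ := of_rep hBC (h i) b hb
    rw [h1] at hPG
    rw [hτ] at sq
    exact ⟨_, _, _, hG, sq.flip, hPG⟩
  choose G fst snd hG sq hPG using key
  exact (hP (fun i => (AlgSp.yon S).obj (V i)) (fun i => (AlgSp.yon S).map (g i)) (AlgSp.IsAlgSpace.yon_obj U)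
    (fun i => AlgSp.IsAlgSpace.yon_obj (V i)) (isFppfCover_of_fam hg) (AlgSt.spMapOfOver (BasedFunctor.comp a w))
    F.property G fst snd hG sq).2 hPG

/-- Locality of `RepOver P` over a covering sieve. -/
theorem repOver_of_sieve {P : MorphismProperty (AlgSp.Sp S)} (hP : AlgSp.IsLocalOnBase AlgSp.IsFppfCover P)
    (hBC : BC P) {U : Over S} {w : 𝒲 ⥤ᵇ FibCat.overCat U} (hw : AlgSt.RepByAlgSp 𝒲)
    {R : Sieve U} (hR : R ∈ (QuotSh.J Scheme.fppfPrecoverage S) U)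
    (h : ∀ (T : Over S) (s : T ⟶ U), R s → RepOver P (FibCat.fpFst (AlgSt.overMap s) w)) : RepOver P w := by
  obtain ⟨ι, V, g, hg, hgR⟩ := exists_fam_of_mem hR
  exact repOver_of_fam hP hBC hw hg fun i => h _ _ (hgR i)

variable {𝒳 : BasedCategory.{v₃, u₃} (Over S)} {𝒴 : BasedCategory.{v₄, u₄} (Over S)}

theorem repOver_paste {P : MorphismProperty (AlgSp.Sp S)} {U V : Over S} (s : V ⟶ U) (y : FibCat.overCat U ⥤ᵇ 𝒴)
    (f : 𝒳 ⥤ᵇ 𝒴) : RepOver P (FibCat.fpFst (BasedFunctor.comp (AlgSt.overMap s) y) f) ↔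
      RepOver P (FibCat.fpFst (AlgSt.overMap s) (FibCat.fpFst y f)) :=
  RepOver.iff_of_equiv (K734.Fib.fpPaste (AlgSt.overMap s) y f) (K734.Fib.isEquivOver_fpPaste _ _ _) (Iso.refl _)

theorem repOver_congr {P : MorphismProperty (AlgSp.Sp S)} {U : Over S} {y y' : FibCat.overCat U ⥤ᵇ 𝒴}
    (e : y ≅ y') (f : 𝒳 ⥤ᵇ 𝒴) (h : RepOver P (FibCat.fpFst y f)) : RepOver P (FibCat.fpFst y' f) :=
  h.of_equiv (K734.Fib.fpCongrL e.symm f) (K734.Fib.isEquivOver_fpCongrL _ _) (Iso.refl _)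

/-- Base change of `RepOver P (fpFst y f)` along a map of schemes. -/
theorem repOver_bc {P : MorphismProperty (AlgSp.Sp S)} (hBC : BC P) {U V : Over S} (s : V ⟶ U)
    (y : FibCat.overCat U ⥤ᵇ 𝒴) (f : 𝒳 ⥤ᵇ 𝒴) (h : RepOver P (FibCat.fpFst y f)) :
    RepOver P (FibCat.fpFst (BasedFunctor.comp (AlgSt.overMap s) y) f) :=
  (repOver_paste s y f).2 (repByAlgSpWith_of_repOver hBC h V (AlgSt.overMap s))

/-- Locality of `RepByAlgSpWith P`, objectwise: it is enough that every `y : (Sch/U) ⟶ 𝒴` is covered by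
`T ⟶ U` over which the base change of `f` has `P`. -/
theorem repOver_fp_of_sieve {P : MorphismProperty (AlgSp.Sp S)} (hP : AlgSp.IsLocalOnBase AlgSp.IsFppfCover P)
    (hBC : BC P) (f : 𝒳 ⥤ᵇ 𝒴) {U : Over S} (y : FibCat.overCat U ⥤ᵇ 𝒴) (hf : AlgSt.RepByAlgSp (FibCat.fp y f))
    {R : Sieve U} (hR : R ∈ (QuotSh.J Scheme.fppfPrecoverage S) U)
    (h : ∀ (T : Over S) (s : T ⟶ U), R s →
      RepOver P (FibCat.fpFst (BasedFunctor.comp (AlgSt.overMap s) y) f)) : RepOver P (FibCat.fpFst y f) :=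
  repOver_of_sieve hP hBC hf hR fun T s hs => (repOver_paste s y f).1 (h T s hs)

end K894.Loc
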