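import Groth.Prelude.Def_StGerb

/-!
# Formal calculus of gerbes over a site (helper894)

Everything here is for categories over `C` that are fibred in groupoids; no stack condition is used.

* `lift_exists`, `strCart`, `exists_fac`, `fac_unique`, `isIso_of_id` : cartesian lifting toolkit in `IsHomLift` form;
* `surjSieve`, `locSurjObj_iff` : `LocSurjObj J F` says that a certain sieve covers;
* `locSurjHom_iff_diag` : `LocSurjHom J F ↔ LocSurjObj J (FibCat.diag F)`;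
* `locSurjObj_fpFst`, `isGerbeOver_fpFst` : base change;
* `isGerbeOver_of_fpFst` : descent along a locally essentially surjective `G`;
* `locSurjObj_comp`, `locSurjObj_of_comp`, `isGerbeOver_comp`.
-/

set_option autoImplicit false
set_option backward.isDefEq.respectTransparency false
set_option backward.isDefEq.respectTransparency.types false

universe v₄ u₄ v₃ u₃ v₂ u₂ v u

open CategoryTheory

namespace K894.Formal

section Fib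

variable {C : Type u} [Category.{v} C] {𝒳 : Type u₂} [Category.{v₂} 𝒳] (p : 𝒳 ⥤ C)

/-- lifts exist, with the base object only propositionally equal -/
theorem lift_exists [FibCat.IsFibGrpd p] {x : 𝒳} {U V : C} (hx : p.obj x = U) (f : V ⟶ U) :
    ∃ (y : 𝒳) (φ : y ⟶ x), p.IsHomLift f φ := by
  subst hx
  exact FibCat.IsFibGrpd.exists_lift f

/-- every morphism is strongly cartesian over whatever it lies over -/
theorem strCart [FibCat.IsFibGrpd p] {x y : 𝒳} {U V : C} (f : V ⟶ U) (φ : y ⟶ x) (h : p.IsHomLift f φ) :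
    p.IsStronglyCartesian f φ := by
  obtain ⟨⟩ := h
  exact FibCat.IsFibGrpd.isStronglyCartesian φ

/-- factorisation through a given morphism -/
theorem exists_fac [FibCat.IsFibGrpd p] {x y z : 𝒳} {U V W : C} (f : V ⟶ U) (φ : y ⟶ x)
    (h : p.IsHomLift f φ) (g : W ⟶ V) (f' : W ⟶ U) (e : f' = g ≫ f) (ψ : z ⟶ x) (h' : p.IsHomLift f' ψ) :
    ∃ χ : z ⟶ y, p.IsHomLift g χ ∧ χ ≫ φ = ψ := by
  have := strCart p f φ h
  obtain ⟨χ, hχ, -⟩ := Functor.IsStronglyCartesian.universal_property p f φ g f' e ψ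
  exact ⟨χ, hχ⟩

theorem fac_unique [FibCat.IsFibGrpd p] {x y z : 𝒳} {U V W : C} (f : V ⟶ U) (φ : y ⟶ x)
    (h : p.IsHomLift f φ) (g : W ⟶ V) (χ χ' : z ⟶ y) (h₁ : p.IsHomLift g χ) (h₂ : p.IsHomLift g χ')
    (e : χ ≫ φ = χ' ≫ φ) : χ = χ' := by
  have := strCart p f φ h
  exact Functor.IsStronglyCartesian.ext p f φ g e

/-- a morphism over an isomorphism is an isomorphism -/
theorem isIso_of_lift [FibCat.IsFibGrpd p] {x y : 𝒳} {U V : C} (f : V ⟶ U) [IsIso f] (φ : y ⟶ x)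
    (h : p.IsHomLift f φ) : IsIso φ := by
  have := strCart p f φ h
  exact Functor.IsStronglyCartesian.isIso_of_base_isIso p f φ

/-- `g : a ⟶ y` and `ψ : b ⟶ y` over the same `f` : the isomorphism `a ≅ b` over the identity. -/
theorem exists_iso [FibCat.IsFibGrpd p] {a b y : 𝒳} {U V : C} (f : V ⟶ U) (g : a ⟶ y) (ψ : b ⟶ y)
    (hg : p.IsHomLift f g) (hψ : p.IsHomLift f ψ) :
    ∃ e : a ≅ b, p.IsHomLift (𝟙 V) e.hom ∧ e.hom ≫ ψ = g := by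
  obtain ⟨χ, hχ, e⟩ := exists_fac p f ψ hψ (𝟙 V) f (by simp) g hg
  have := isIso_of_lift p (𝟙 V) χ hχ
  exact ⟨asIso χ, hχ, e⟩

end Fib

section Cat

variable {C : Type u} [Category.{v} C] {J : GrothendieckTopology C}
  {𝒳 : BasedCategory.{v₂, u₂} C} {𝒴 : BasedCategory.{v₃, u₃} C} {𝒵 : BasedCategory.{v₄, u₄} C}

/-- The sieve of arrows into `U` over which the object `y` over `U` lifts along `F`. -/
def surjSieve [FibCat.IsFibGrpd 𝒳.p] (F : 𝒳 ⥤ᵇ 𝒴) (y : 𝒴.obj) {U : C} (_ : 𝒴.p.obj y = U) : Sieve U where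
  arrows := fun V f => ∃ (x : 𝒳.obj) (g : F.obj x ⟶ y), 𝒴.p.IsHomLift f g
  downward_closed := by
    rintro V W f ⟨x, g, hg⟩ h
    have hx : 𝒳.p.obj x = V := (F.w_obj x).symm.trans (IsHomLift.domain_eq 𝒴.p f g)
    obtain ⟨x', φ, hφ⟩ := lift_exists 𝒳.p hx h
    exact ⟨x', F.map φ ≫ g, inferInstance⟩

theorem surjSieve_apply [FibCat.IsFibGrpd 𝒳.p] (F : 𝒳 ⥤ᵇ 𝒴) (y : 𝒴.obj) {U V : C} (hy : 𝒴.p.obj y = U)
    (f : V ⟶ U) : (surjSieve F y hy) f ↔ ∃ (x : 𝒳.obj) (g : F.obj x ⟶ y), 𝒴.p.IsHomLift f g := Iff.rfl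

theorem surjSieve_mem_of [FibCat.IsFibGrpd 𝒳.p] {F : 𝒳 ⥤ᵇ 𝒴} (h : Gerb.LocSurjObj J F) (y : 𝒴.obj) {U : C}
    (hy : 𝒴.p.obj y = U) : surjSieve F y hy ∈ J U := by
  subst hy
  obtain ⟨R, hR, h⟩ := h y
  exact J.superset_covering (fun V f hf => h f hf) hR

set_option linter.unusedVariables false in
theorem locSurjObj_iff [FibCat.IsFibGrpd 𝒳.p] (F : 𝒳 ⥤ᵇ 𝒴) :
    Gerb.LocSurjObj J F ↔ ∀ (y : 𝒴.obj) (U : C) (hy : 𝒴.p.obj y = U), surjSieve F y hy ∈ J U :=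
  ⟨fun h y U hy => surjSieve_mem_of h y hy, fun h y => ⟨_, h y _ rfl, fun _ _ hf => hf⟩⟩

/-- local criterion: it is enough to lift locally -/
theorem surjSieve_mem_of_cover [FibCat.IsFibGrpd 𝒳.p] [FibCat.IsFibGrpd 𝒴.p] (F : 𝒳 ⥤ᵇ 𝒴) (y : 𝒴.obj) {U : C}
    (hy : 𝒴.p.obj y = U) (R : Sieve U) (hR : R ∈ J U)
    (h : ∀ ⦃V : C⦄ (f : V ⟶ U), R f → ∃ (y' : 𝒴.obj) (ψ : y' ⟶ y) (_ : 𝒴.p.IsHomLift f ψ)
      (hy' : 𝒴.p.obj y' = V), surjSieve F y' hy' ∈ J V) :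
    surjSieve F y hy ∈ J U := by
  refine J.transitive hR _ fun V f hf => ?_
  obtain ⟨y', ψ, hψ, hy', hc⟩ := h f hf
  refine J.superset_covering ?_ hc
  rintro W g ⟨x, k, hk⟩
  exact ⟨x, k ≫ ψ, inferInstance⟩

/-- The restriction of the sieve to `V ⟶ U` is the sieve of the restriction. -/
theorem surjSieve_pullback [FibCat.IsFibGrpd 𝒳.p] [FibCat.IsFibGrpd 𝒴.p] (F : 𝒳 ⥤ᵇ 𝒴) {y y' : 𝒴.obj}
    {U V : C} (f : V ⟶ U) (ψ : y' ⟶ y) (hψ : 𝒴.p.IsHomLift f ψ) (hy : 𝒴.p.obj y = U) (hy' : 𝒴.p.obj y' = V) :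
    (surjSieve F y hy).pullback f = surjSieve F y' hy' := by
  ext W g
  constructor
  · rintro ⟨x, k, hk⟩
    obtain ⟨χ, hχ, -⟩ := exists_fac 𝒴.p f ψ hψ g (g ≫ f) rfl k hk
    exact ⟨x, χ, hχ⟩
  · rintro ⟨x, k, hk⟩
    exact ⟨x, k ≫ ψ, inferInstance⟩

theorem locSurjObj_comp [FibCat.IsFibGrpd 𝒳.p] [FibCat.IsFibGrpd 𝒴.p] [FibCat.IsFibGrpd 𝒵.p]
    {F : 𝒳 ⥤ᵇ 𝒴} {G : 𝒴 ⥤ᵇ 𝒵} (hF : Gerb.LocSurjObj J F) (hG : Gerb.LocSurjObj J G) :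
    Gerb.LocSurjObj J (BasedFunctor.comp F G) := by
  rw [locSurjObj_iff]
  intro z U hz
  refine J.transitive (surjSieve_mem_of hG z hz) _ ?_
  rintro V f ⟨y, g, hg⟩
  have hy : 𝒴.p.obj y = V := (G.w_obj y).symm.trans (IsHomLift.domain_eq 𝒵.p f g)
  refine J.superset_covering ?_ (surjSieve_mem_of hF y hy)
  rintro W h ⟨x, k, hk⟩
  exact ⟨x, G.map k ≫ g, (inferInstance : 𝒵.p.IsHomLift (h ≫ f) (G.map k ≫ g))⟩

theorem locSurjObj_of_comp {F : 𝒳 ⥤ᵇ 𝒴} {G : 𝒴 ⥤ᵇ 𝒵}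
    (h : Gerb.LocSurjObj J (BasedFunctor.comp F G)) : Gerb.LocSurjObj J G := by
  intro z
  obtain ⟨R, hR, h⟩ := h z
  refine ⟨R, hR, fun V f hf => ?_⟩
  obtain ⟨x, g, hg⟩ := h f hf
  exact ⟨F.obj x, g, hg⟩

/-- invariance under 2-isomorphism -/
theorem locSurjObj_of_iso {F F' : 𝒳 ⥤ᵇ 𝒴} (e : F ≅ F') (h : Gerb.LocSurjObj J F) : Gerb.LocSurjObj J F' := by
  intro y
  obtain ⟨R, hR, h⟩ := h y
  refine ⟨R, hR, fun V f hf => ?_⟩
  obtain ⟨x, g, hg⟩ := h f hf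
  have hx : 𝒳.p.obj x = V := (F.w_obj x).symm.trans (IsHomLift.domain_eq 𝒴.p f g)
  have : 𝒴.p.IsHomLift (𝟙 V) (e.inv.toNatTrans.app x) := e.inv.isHomLift hx
  exact ⟨x, e.inv.toNatTrans.app x ≫ g, inferInstance⟩

/-- a functor with a section up to 2-isomorphism is locally essentially surjective -/
theorem locSurjObj_of_section (J : GrothendieckTopology C) {F : 𝒳 ⥤ᵇ 𝒴} {s : 𝒴 ⥤ᵇ 𝒳}
    (e : BasedFunctor.comp s F ≅ BasedFunctor.id 𝒴) [FibCat.IsFibGrpd 𝒴.p] : Gerb.LocSurjObj J F := by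
  refine locSurjObj_of_comp (F := s) (locSurjObj_of_iso e.symm ?_)
  intro y
  refine ⟨⊤, J.top_mem _, fun V f _ => ?_⟩
  obtain ⟨y', φ, hφ⟩ := lift_exists 𝒴.p rfl f
  exact ⟨y', φ, hφ⟩

/-! ### the 2-fibre product -/

variable (F : 𝒳 ⥤ᵇ 𝒴) (G : 𝒵 ⥤ᵇ 𝒴)

/-- build an object of `fp G F` -/
def mkObj (z : 𝒵.obj) (x : 𝒳.obj) (e : G.obj z ≅ F.obj x) (he : 𝒴.p.IsHomLift (𝟙 (𝒵.p.obj z)) e.hom) :
    (FibCat.fp G F).obj :=
  ⟨{ fst := z, snd := x, iso := e }, he⟩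

variable {F G} in
/-- build a morphism of `fp G F` -/
def mkHom {a b : (FibCat.fp G F).obj} (s : a.obj.fst ⟶ b.obj.fst) (t : a.obj.snd ⟶ b.obj.snd)
    (w : G.map s ≫ b.obj.iso.hom = a.obj.iso.hom ≫ F.map t) : a ⟶ b :=
  ObjectProperty.homMk { fst := s, snd := t, w := w }

variable {F G} in
@[simp] theorem mkHom_fst {a b : (FibCat.fp G F).obj} (s : a.obj.fst ⟶ b.obj.fst) (t : a.obj.snd ⟶ b.obj.snd)
    (w : G.map s ≫ b.obj.iso.hom = a.obj.iso.hom ≫ F.map t) :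
    (FibCat.fpFst G F).map (mkHom s t w) = s := rfl

variable {F G} in
@[simp] theorem mkHom_snd {a b : (FibCat.fp G F).obj} (s : a.obj.fst ⟶ b.obj.fst) (t : a.obj.snd ⟶ b.obj.snd)
    (w : G.map s ≫ b.obj.iso.hom = a.obj.iso.hom ≫ F.map t) :
    (FibCat.fpSnd G F).map (mkHom s t w) = t := rfl

variable {F G} in
theorem isHomLift_iso (a : (FibCat.fp G F).obj) {U : C} (hU : 𝒵.p.obj a.obj.fst = U) :
    𝒴.p.IsHomLift (𝟙 U) a.obj.iso.hom := by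
  subst hU; exact a.property

variable {F G} in
theorem snd_over (a : (FibCat.fp G F).obj) {U : C} (hU : 𝒵.p.obj a.obj.fst = U) : 𝒳.p.obj a.obj.snd = U :=
  have := isHomLift_iso a hU
  (F.w_obj _).symm.trans (IsHomLift.codomain_eq 𝒴.p (𝟙 U) a.obj.iso.hom)

variable {F G} in
theorem fp_hom_ext {a b : (FibCat.fp G F).obj} {s t : a ⟶ b} (h₁ : s.hom.fst = t.hom.fst)
    (h₂ : s.hom.snd = t.hom.snd) : s = t :=
  ObjectProperty.hom_ext _ (Limits.CategoricalPullback.hom_ext h₁ h₂)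

variable {F G} in
theorem isHomLift_hom_iff {a b : (FibCat.fp G F).obj} (s : a ⟶ b) {U V : C} (f : U ⟶ V) :
    (FibCat.fp G F).p.IsHomLift f s ↔ 𝒵.p.IsHomLift f s.hom.fst :=
  (BasedFunctor.isHomLift_iff (FibCat.fpFst G F) f s).symm

instance isFibGrpd_fp [FibCat.IsFibGrpd 𝒳.p] [FibCat.IsFibGrpd 𝒴.p] [FibCat.IsFibGrpd 𝒵.p] :
    FibCat.IsFibGrpd (FibCat.fp G F).p where
  exists_lift := by
    intro a V f
    change V ⟶ 𝒵.p.obj a.obj.fst at f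
    obtain ⟨z', ζ, hζ⟩ := lift_exists 𝒵.p (x := a.obj.fst) rfl f
    obtain ⟨x', ξ, hξ⟩ := lift_exists 𝒳.p (x := a.obj.snd) (snd_over a rfl) f
    have := isHomLift_iso a (U := 𝒵.p.obj a.obj.fst) rfl
    have h1 : 𝒴.p.IsHomLift f (G.map ζ ≫ a.obj.iso.hom) := inferInstance
    obtain ⟨e, he, hc⟩ := exists_iso 𝒴.p f (G.map ζ ≫ a.obj.iso.hom) (F.map ξ) h1 inferInstance
    have hz' : 𝒵.p.obj z' = V := IsHomLift.domain_eq 𝒵.p f ζ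
    have he' : 𝒴.p.IsHomLift (𝟙 (𝒵.p.obj z')) e.hom := by rw [hz']; exact he
    refine ⟨mkObj F G z' x' e he', mkHom ζ ξ hc.symm, ?_⟩
    rw [isHomLift_hom_iff]
    exact hζ
  isStronglyCartesian := by
    intro a b s
    refine { toIsHomLift := inferInstance, universal_property' := ?_ }
    intro c g t ht
    have hts : 𝒵.p.IsHomLift (g ≫ (FibCat.fp G F).p.map s) t.hom.fst := (isHomLift_hom_iff t _).1 ht
    have htx : 𝒳.p.IsHomLift (g ≫ (FibCat.fp G F).p.map s) t.hom.snd :=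
      @BasedFunctor.preserves_isHomLift _ _ _ _ (FibCat.fpSnd G F) _ _ _ _ _ t ht
    have hs1 : 𝒵.p.IsHomLift ((FibCat.fp G F).p.map s) s.hom.fst := (isHomLift_hom_iff s _).1 inferInstance
    have hs2 : 𝒳.p.IsHomLift ((FibCat.fp G F).p.map s) s.hom.snd := inferInstance
    obtain ⟨χ₁, hχ₁, e₁⟩ := exists_fac 𝒵.p _ s.hom.fst hs1 g _ rfl t.hom.fst hts
    obtain ⟨χ₂, hχ₂, e₂⟩ := exists_fac 𝒳.p _ s.hom.snd hs2 g _ rfl t.hom.snd htx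
    have ha := isHomLift_iso a (U := 𝒵.p.obj a.obj.fst) rfl
    have hc := isHomLift_iso c (U := 𝒵.p.obj c.obj.fst) rfl
    have w : G.map χ₁ ≫ a.obj.iso.hom = c.obj.iso.hom ≫ F.map χ₂ := by
      have hh1 : 𝒴.p.IsHomLift g (G.map χ₁ ≫ a.obj.iso.hom) := by
        exact @IsHomLift.comp_lift_id_right' _ _ _ _ 𝒴.p _ _ _ _ _ g (G.map χ₁) _
          (𝒵.p.obj a.obj.fst) a.obj.iso.hom ha
      have hh2 : 𝒴.p.IsHomLift g (c.obj.iso.hom ≫ F.map χ₂) := by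
        exact @IsHomLift.comp_lift_id_left' _ _ _ _ 𝒴.p _ _ _ (𝒵.p.obj c.obj.fst) c.obj.iso.hom hc
          _ _ g (F.map χ₂) _
      refine fac_unique 𝒴.p ((FibCat.fp G F).p.map s) (F.map s.hom.snd) inferInstance g _ _ hh1 hh2 ?_
      rw [Category.assoc, Category.assoc, ← s.hom.w, ← F.map_comp, e₂, ← Category.assoc, ← G.map_comp, e₁]
      exact t.hom.w
    refine ⟨mkHom χ₁ χ₂ w, ⟨(isHomLift_hom_iff _ _).2 hχ₁, fp_hom_ext e₁ e₂⟩, ?_⟩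
    rintro χ ⟨hχ, e⟩
    have hχ1 : 𝒵.p.IsHomLift g χ.hom.fst := (isHomLift_hom_iff χ _).1 hχ
    have hχ2 : 𝒳.p.IsHomLift g χ.hom.snd :=
      @BasedFunctor.preserves_isHomLift _ _ _ _ (FibCat.fpSnd G F) _ _ _ _ _ χ hχ
    refine fp_hom_ext ?_ ?_
    · refine fac_unique 𝒵.p _ s.hom.fst hs1 g _ _ hχ1 hχ₁ ?_
      exact (show χ.hom.fst ≫ s.hom.fst = t.hom.fst by rw [← e]; rfl).trans e₁.symm
    · refine fac_unique 𝒳.p _ s.hom.snd hs2 g _ _ hχ2 hχ₂ ?_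
      exact (show χ.hom.snd ≫ s.hom.snd = t.hom.snd by rw [← e]; rfl).trans e₂.symm

/-! ### morphisms lift locally iff the diagonal is locally essentially surjective -/

theorem locSurjHom_iff_diag [FibCat.IsFibGrpd 𝒳.p] [FibCat.IsFibGrpd 𝒴.p] :
    Gerb.LocSurjHom J F ↔ Gerb.LocSurjObj J (FibCat.diag F) := by
  constructor
  · intro h a
    obtain ⟨R, hR, h⟩ := h a.obj.fst a.obj.snd a.obj.iso.hom (isHomLift_iso a rfl)
    refine ⟨R, hR, fun V f hf => ?_⟩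
    obtain ⟨x₀, φ, ψ, hφ, hψ, e⟩ := h f hf
    refine ⟨x₀, mkHom (F := F) (G := F) (a := (FibCat.diag F).obj x₀) φ ψ ?_, ?_⟩
    · exact e.trans (Category.id_comp _).symm
    · rw [isHomLift_hom_iff]
      exact hφ
  · intro h x x' b hb
    obtain ⟨hbi⟩ : Nonempty (IsIso b) := ⟨isIso_of_lift 𝒴.p (𝟙 _) b hb⟩
    obtain ⟨R, hR, h⟩ := h (mkObj F F x x' (asIso b) hb)
    refine ⟨R, hR, fun V f hf => ?_⟩
    obtain ⟨x₀, g, hg⟩ := h f hf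
    refine ⟨x₀, g.hom.fst, g.hom.snd, (isHomLift_hom_iff g _).1 hg,
      @BasedFunctor.preserves_isHomLift _ _ _ _ (FibCat.fpSnd F F) _ _ _ _ _ g hg, ?_⟩
    exact g.hom.w.trans (Category.id_comp _)

theorem isGerbeOver_iff [FibCat.IsFibGrpd 𝒳.p] [FibCat.IsFibGrpd 𝒴.p] :
    Gerb.IsGerbeOver J F ↔ Gerb.LocSurjObj J F ∧ Gerb.LocSurjObj J (FibCat.diag F) := by
  rw [← locSurjHom_iff_diag]; rfl

/-! ### base change -/

variable {F} in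
theorem locSurjObj_fpFst [FibCat.IsFibGrpd 𝒴.p] [FibCat.IsFibGrpd 𝒵.p] (h : Gerb.LocSurjObj J F) :
    Gerb.LocSurjObj J (FibCat.fpFst G F) := by
  intro z
  obtain ⟨R, hR, h⟩ := h (G.obj z)
  refine ⟨R.pullback (eqToHom (G.w_obj z).symm), J.pullback_stable _ hR, fun V f hf => ?_⟩
  obtain ⟨x, g, hg⟩ := h _ hf
  have hg' : 𝒴.p.IsHomLift f g := by simpa using hg
  obtain ⟨z', ζ, hζ⟩ := lift_exists 𝒵.p (x := z) rfl f
  obtain ⟨e, he, hc⟩ := exists_iso 𝒴.p f (G.map ζ) g inferInstance hg'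
  have hz' : 𝒵.p.obj z' = V := IsHomLift.domain_eq 𝒵.p f ζ
  have he' : 𝒴.p.IsHomLift (𝟙 (𝒵.p.obj z')) e.hom := by rw [hz']; exact he
  exact ⟨mkObj F G z' x e he', ζ, hζ⟩

variable {F} in
theorem locSurjHom_fpFst [FibCat.IsFibGrpd 𝒴.p] [FibCat.IsFibGrpd 𝒵.p] (h : Gerb.LocSurjHom J F) :
    Gerb.LocSurjHom J (FibCat.fpFst G F) := by
  intro a a' b hb
  change a.obj.fst ⟶ a'.obj.fst at b
  change 𝒵.p.IsHomLift (𝟙 (𝒵.p.obj a.obj.fst)) b at hb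
  have ha := isHomLift_iso a (U := 𝒵.p.obj a.obj.fst) rfl
  have hea : 𝒵.p.obj a'.obj.fst = 𝒵.p.obj a.obj.fst := IsHomLift.codomain_eq 𝒵.p (𝟙 _) b
  have ha' := isHomLift_iso a' (U := 𝒵.p.obj a.obj.fst) hea
  let β : F.obj a.obj.snd ⟶ F.obj a'.obj.snd := a.obj.iso.inv ≫ G.map b ≫ a'.obj.iso.hom
  have hβ : 𝒴.p.IsHomLift (𝟙 (𝒵.p.obj a.obj.fst)) β := by
    dsimp only [β]; infer_instance
  have hx : 𝒳.p.obj a.obj.snd = 𝒵.p.obj a.obj.fst := snd_over a rfl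
  have hβ' : 𝒴.p.IsHomLift (𝟙 (𝒳.p.obj a.obj.snd)) β := by rw [hx]; exact hβ
  obtain ⟨R, hR, h⟩ := h _ _ β hβ'
  refine ⟨R.pullback (eqToHom hx.symm), J.pullback_stable _ hR, fun V f hf => ?_⟩
  change V ⟶ 𝒵.p.obj a.obj.fst at f
  obtain ⟨x₀, φ, ψ, hφ, hψ, e⟩ := h _ hf
  have hφ' : 𝒳.p.IsHomLift f φ := by simpa using hφ
  have hψ' : 𝒳.p.IsHomLift f ψ := by simpa using hψ
  obtain ⟨z', ζ, hζ⟩ := lift_exists 𝒵.p (x := a.obj.fst) rfl f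
  have h1 : 𝒴.p.IsHomLift f (G.map ζ ≫ a.obj.iso.hom) := inferInstance
  obtain ⟨ε, hε, hc⟩ := exists_iso 𝒴.p f (G.map ζ ≫ a.obj.iso.hom) (F.map φ) h1 inferInstance
  have hz' : 𝒵.p.obj z' = V := IsHomLift.domain_eq 𝒵.p f ζ
  have hε' : 𝒴.p.IsHomLift (𝟙 (𝒵.p.obj z')) ε.hom := by rw [hz']; exact hε
  refine ⟨mkObj F G z' x₀ ε hε', mkHom ζ φ hc.symm, mkHom (ζ ≫ b) ψ ?_, ?_, ?_, rfl⟩
  · change G.map (ζ ≫ b) ≫ a'.obj.iso.hom = ε.hom ≫ F.map ψ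
    rw [← e, ← Category.assoc ε.hom, hc]
    simp [β]
  · rw [isHomLift_hom_iff]; exact hζ
  · rw [isHomLift_hom_iff]
    exact (inferInstance : 𝒵.p.IsHomLift f (ζ ≫ b))

variable {F} in
theorem isGerbeOver_fpFst [FibCat.IsFibGrpd 𝒴.p] [FibCat.IsFibGrpd 𝒵.p] (h : Gerb.IsGerbeOver J F) :
    Gerb.IsGerbeOver J (FibCat.fpFst G F) :=
  ⟨locSurjObj_fpFst G h.1, locSurjHom_fpFst G h.2⟩

/-! ### descent -/

variable {F G} in
theorem locSurjObj_of_fpFst [FibCat.IsFibGrpd 𝒳.p] [FibCat.IsFibGrpd 𝒴.p] [FibCat.IsFibGrpd 𝒵.p]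
    (hG : Gerb.LocSurjObj J G) (h : Gerb.LocSurjObj J (FibCat.fpFst G F)) : Gerb.LocSurjObj J F := by
  refine locSurjObj_of_comp (F := FibCat.fpSnd G F) (locSurjObj_of_iso (FibCat.fpIso G F) ?_)
  exact locSurjObj_comp h hG

/-- The sieve on which the morphism `b : F x ⟶ F x'` over the identity lifts locally. -/
def homSieve [FibCat.IsFibGrpd 𝒳.p] (F : 𝒳 ⥤ᵇ 𝒴) (x x' : 𝒳.obj) (b : F.obj x ⟶ F.obj x') {U : C}
    (_ : 𝒴.p.IsHomLift (𝟙 U) b) : Sieve U where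
  arrows := fun V f => ∃ (x₀ : 𝒳.obj) (φ : x₀ ⟶ x) (ψ : x₀ ⟶ x'),
    𝒳.p.IsHomLift f φ ∧ 𝒳.p.IsHomLift f ψ ∧ F.map φ ≫ b = F.map ψ
  downward_closed := by
    rintro V W f ⟨x₀, φ, ψ, hφ, hψ, e⟩ h
    have hx : 𝒳.p.obj x₀ = V := IsHomLift.domain_eq 𝒳.p f φ
    obtain ⟨x', χ, hχ⟩ := lift_exists 𝒳.p hx h
    refine ⟨x', χ ≫ φ, χ ≫ ψ, inferInstance, inferInstance, ?_⟩
    rw [F.map_comp, F.map_comp, Category.assoc, e]

theorem homSieve_mem_of [FibCat.IsFibGrpd 𝒳.p] {F : 𝒳 ⥤ᵇ 𝒴} (h : Gerb.LocSurjHom J F) (x x' : 𝒳.obj)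
    (b : F.obj x ⟶ F.obj x') {U : C} (hb : 𝒴.p.IsHomLift (𝟙 U) b) : homSieve F x x' b hb ∈ J U := by
  have hx : 𝒳.p.obj x = U := (F.w_obj x).symm.trans (IsHomLift.domain_eq 𝒴.p (𝟙 U) b)
  subst hx
  obtain ⟨R, hR, h⟩ := h x x' b hb
  exact J.superset_covering (fun V f hf => h f hf) hR

theorem locSurjHom_of_homSieve [FibCat.IsFibGrpd 𝒳.p] {F : 𝒳 ⥤ᵇ 𝒴}
    (h : ∀ (x x' : 𝒳.obj) (b : F.obj x ⟶ F.obj x') (hb : 𝒴.p.IsHomLift (𝟙 (𝒳.p.obj x)) b),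
      homSieve F x x' b hb ∈ J (𝒳.p.obj x)) : Gerb.LocSurjHom J F :=
  fun x x' b hb => ⟨_, h x x' b hb, fun _ _ hf => hf⟩

variable {F G} in
theorem locSurjHom_of_fpFst [FibCat.IsFibGrpd 𝒳.p] [FibCat.IsFibGrpd 𝒴.p] [FibCat.IsFibGrpd 𝒵.p]
    (hG : Gerb.LocSurjObj J G) (h : Gerb.LocSurjHom J (FibCat.fpFst G F)) : Gerb.LocSurjHom J F := by
  refine locSurjHom_of_homSieve fun x x' b hb => ?_
  have hFx : 𝒴.p.obj (F.obj x) = 𝒳.p.obj x := F.w_obj x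
  refine J.transitive (surjSieve_mem_of hG (F.obj x) hFx) _ ?_
  rintro V f ⟨z, g, hg⟩
  -- restrict `x`, `x'` to `V`
  obtain ⟨y, φ, hφ⟩ := lift_exists 𝒳.p (x := x) rfl f
  have hx' : 𝒳.p.obj x' = 𝒳.p.obj x := (F.w_obj x').symm.trans (IsHomLift.codomain_eq 𝒴.p (𝟙 _) b)
  obtain ⟨y', φ', hφ'⟩ := lift_exists 𝒳.p hx' f
  -- the isomorphisms with `G z`
  obtain ⟨e, he, hc⟩ := exists_iso 𝒴.p f g (F.map φ) hg inferInstance
  obtain ⟨e', he', hc'⟩ := exists_iso 𝒴.p f (g ≫ b) (F.map φ') inferInstance inferInstance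
  have hz : 𝒵.p.obj z = V := (G.w_obj z).symm.trans (IsHomLift.domain_eq 𝒴.p f g)
  subst hz
  have hz2 : 𝒵.p.IsHomLift (𝟙 (𝒵.p.obj z)) (𝟙 z) := inferInstance
  let a : (FibCat.fp G F).obj := mkObj F G z y e he
  let a' : (FibCat.fp G F).obj := mkObj F G z y' e' he'
  have key := homSieve_mem_of h a a' (𝟙 z : (FibCat.fpFst G F).obj a ⟶ (FibCat.fpFst G F).obj a') hz2
  refine J.superset_covering ?_ key
  rintro W k ⟨c, s, t, hs, ht, hst⟩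
  have hs' : 𝒵.p.IsHomLift k s.hom.fst := (isHomLift_hom_iff s _).1 hs
  have ht' : 𝒵.p.IsHomLift k t.hom.fst := (isHomLift_hom_iff t _).1 ht
  have hs2 : 𝒳.p.IsHomLift k s.hom.snd :=
    @BasedFunctor.preserves_isHomLift _ _ _ _ (FibCat.fpSnd G F) _ _ _ _ _ s hs
  have ht2 : 𝒳.p.IsHomLift k t.hom.snd :=
    @BasedFunctor.preserves_isHomLift _ _ _ _ (FibCat.fpSnd G F) _ _ _ _ _ t ht
  have hst' : s.hom.fst = t.hom.fst :=
    (Category.comp_id (Y := z) s.hom.fst).symm.trans hst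
  refine ⟨c.obj.snd, s.hom.snd ≫ φ, t.hom.snd ≫ φ', inferInstance, inferInstance, ?_⟩
  have ws : G.map s.hom.fst ≫ e.hom = c.obj.iso.hom ≫ F.map s.hom.snd := s.hom.w
  have wt : G.map t.hom.fst ≫ e'.hom = c.obj.iso.hom ≫ F.map t.hom.snd := t.hom.w
  rw [← cancel_epi c.obj.iso.hom, F.map_comp, F.map_comp, Category.assoc, ← Category.assoc _ (F.map s.hom.snd),
    ← ws, ← Category.assoc c.obj.iso.hom (F.map t.hom.snd), ← wt, hst', Category.assoc, Category.assoc, hc',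
    ← Category.assoc e.hom, hc]

variable {F G} in
theorem isGerbeOver_of_fpFst [FibCat.IsFibGrpd 𝒳.p] [FibCat.IsFibGrpd 𝒴.p] [FibCat.IsFibGrpd 𝒵.p]
    (hG : Gerb.LocSurjObj J G) (h : Gerb.IsGerbeOver J (FibCat.fpFst G F)) : Gerb.IsGerbeOver J F :=
  ⟨locSurjObj_of_fpFst hG h.1, locSurjHom_of_fpFst hG h.2⟩

end Cat

end K894.Formal
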