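import Groth.Agent.AlgSt.K735.Fp
import Groth.Prelude.Def_AlgSt3
import Groth.Agent.Gerb.K894.Formal

/-!
# 2-isomorphisms of functors out of slices from spans of objects (helper894)
-/

set_option autoImplicit false
set_option backward.isDefEq.respectTransparency false
set_option backward.isDefEq.respectTransparency.types false

universe v₄ u₄ v₃ u₃ v₂ u₂ v u

open CategoryTheory CategoryTheory.Limits AlgebraicGeometry Opposite K735.Fib K735.Fp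

namespace K894.Span

variable {S : Scheme.{u}} {𝒳 : BasedCategory.{v₂, u₂} (Over S)}

/-- Restriction of `G : (Sch/V) ⟶ 𝒳` along `t` is the 2-Yoneda functor of any object mapping to `G c` over the
corresponding map. -/
theorem exists_iso_yonF (h𝒳 : FibCat.IsFibGrpd 𝒳.p) {V T : Over S} (G : FibCat.overCat V ⥤ᵇ 𝒳)
    (c : (FibCat.overCat V).obj) (x₀ : 𝒳.obj) (hx₀ : 𝒳.p.obj x₀ = T) (φ : x₀ ⟶ G.obj c) (t : T ⟶ V)
    (ht : t = eqToHom hx₀.symm ≫ 𝒳.p.map φ ≫ eqToHom (G.w_obj c) ≫ c.hom) :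
    Nonempty (yonF h𝒳 x₀ hx₀ ≅ BasedFunctor.comp (AlgSt.overMap t) G) := by
  subst hx₀
  let k : (AlgSt.overMap t).obj (idObj (𝒳.p.obj x₀)) ⟶ c :=
    Over.homMk (𝒳.p.map φ ≫ eqToHom (G.w_obj c)) (by
      change (𝒳.p.map φ ≫ eqToHom (G.w_obj c)) ≫ c.hom = 𝟙 _ ≫ t
      rw [ht]
      simp)
  have hk : 𝒳.p.obj (G.obj ((AlgSt.overMap t).obj (idObj (𝒳.p.obj x₀)))) = 𝒳.p.obj x₀ := G.w_obj _
  obtain ⟨χ, hχ1, hχ2⟩ := exists_hom h𝒳 (G.map k) φ (eqToHom hk.symm) (by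
    rw [map_map]
    change _ ≫ _ ≫ (𝒳.p.map φ ≫ eqToHom (G.w_obj c)) ≫ _ = _
    simp)
  have hχ : Vert 𝒳.p χ := vert_of_map_eq _ hχ1
  exact ⟨yonIso h𝒳 _ _ ((yonFIso h𝒳 x₀ rfl).hom ≫ χ) ((vert_yonFIso h𝒳 x₀ rfl).comp hχ)⟩

/-- A span `G c ⟵ x₀ ⟶ H d` gives a 2-isomorphism of restrictions. -/
theorem iso_of_span (h𝒳 : FibCat.IsFibGrpd 𝒳.p) {U V T : Over S} (G : FibCat.overCat V ⥤ᵇ 𝒳)
    (H : FibCat.overCat U ⥤ᵇ 𝒳) (c : (FibCat.overCat V).obj) (d : (FibCat.overCat U).obj) (x₀ : 𝒳.obj)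
    (hx₀ : 𝒳.p.obj x₀ = T) (φ : x₀ ⟶ G.obj c) (ψ : x₀ ⟶ H.obj d) (t : T ⟶ V) (s : T ⟶ U)
    (ht : t = eqToHom hx₀.symm ≫ 𝒳.p.map φ ≫ eqToHom (G.w_obj c) ≫ c.hom)
    (hs : s = eqToHom hx₀.symm ≫ 𝒳.p.map ψ ≫ eqToHom (H.w_obj d) ≫ d.hom) :
    Nonempty (BasedFunctor.comp (AlgSt.overMap s) H ≅ BasedFunctor.comp (AlgSt.overMap t) G) := by
  obtain ⟨e₁⟩ := exists_iso_yonF h𝒳 G c x₀ hx₀ φ t ht
  obtain ⟨e₂⟩ := exists_iso_yonF h𝒳 H d x₀ hx₀ ψ s hs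
  exact ⟨e₂.symm ≪≫ e₁⟩

end K894.Span
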