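import Groth.Agent.Gerb.K894.CoreA
import Groth.Agent.AlgSt.K735.Setoid
import Groth.Prelude.Def_StGerb2

/-!
# The automorphism group scheme represents the inertia (helper894)
-/

set_option autoImplicit false
set_option backward.isDefEq.respectTransparency false
set_option backward.isDefEq.respectTransparency.types false

universe v₄ u₄ v₃ u₃ v₂ u₂ v u

open CategoryTheory CategoryTheory.Limits AlgebraicGeometry Opposite K735.Fib K735.Fp K735.Rep K735.Pts

namespace K894.AutRep

variable {S : Scheme.{u}} {U : Over S} {𝒳 : AlgSt.Cat S}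

/-- The total space of a scheme over `U.left`. -/
abbrev tot (G : Over U.left) : Over S := Over.mk (G.hom ≫ U.hom)

/-- Its structure morphism. -/
abbrev totHom (G : Over U.left) : tot G ⟶ U := Over.homMk G.hom rfl

variable (π : 𝒳 ⥤ᵇ FibCat.overCat U) (x : FibCat.overCat U ⥤ᵇ 𝒳) (G : Over U.left) [GrpObj G]
  (r : Gerb.AutRep x (Gerb.ptsGrp U G))

/-- An automorphism over the identity as an isomorphism. -/
def autIso {y : 𝒳.obj} (α : Gerb.AutO y) : y ≅ y where
  hom := α.hom.1
  inv := α.inv.1
  hom_inv_id := congrArg Subtype.val α.hom_inv_id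
  inv_hom_id := congrArg Subtype.val α.inv_hom_id

theorem vert_autIso {y : 𝒳.obj} (α : Gerb.AutO y) : Vert 𝒳.p (autIso α).hom := α.hom.2

theorem overCat_map_eq_id {y : 𝒳.obj} (φ : y ⟶ y) (h : Vert 𝒳.p φ) : π.map φ = 𝟙 (π.obj y) := by
  apply Over.OverMorphism.ext
  have h1 := (h.map π).map_eq
  exact h1

/-- The section of `G` attached to an object of the slice over the total space. -/
def secOf (k : (FibCat.overCat (tot G)).obj) :
    (Gerb.ptsGrp U G).obj (op ((AlgSt.overMap (totHom G)).obj k)) :=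
  (Over.homMk k.hom.left rfl : (Over.iteratedSliceForward U).obj ((AlgSt.overMap (totHom G)).obj k) ⟶ G)

theorem secOf_map {k k' : (FibCat.overCat (tot G)).obj} (φ : k ⟶ k') :
    (Gerb.ptsGrp U G).map ((AlgSt.overMap (totHom G)).map φ).op (secOf G k') = secOf G k := by
  apply Over.OverMorphism.ext
  change φ.left.left ≫ k'.hom.left = k.hom.left
  rw [← Over.comp_left, Over.w φ]

/-- The functor to the inertia. -/
noncomputable def toInertia : FibCat.overCat (tot G) ⥤ᵇ FibCat.inertia π where
  toFunctor :=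
    { obj := fun k => ⟨x.obj ((AlgSt.overMap (totHom G)).obj k), autIso (r.iso _ (secOf G k)),
        overCat_map_eq_id π _ (vert_autIso _)⟩
      map := fun {k k'} φ => ⟨x.map ((AlgSt.overMap (totHom G)).map φ), by
        have h := r.natural ((AlgSt.overMap (totHom G)).map φ) (secOf G k')
        rw [secOf_map] at h
        exact h⟩
      map_id := fun k => FibCat.InertiaObj.hom_ext (by
        change x.map ((AlgSt.overMap (totHom G)).map (𝟙 k)) = 𝟙 _
        rw [(AlgSt.overMap (totHom G)).map_id, x.map_id])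
      map_comp := fun f g => FibCat.InertiaObj.hom_ext (by
        change x.map ((AlgSt.overMap (totHom G)).map (f ≫ g)) = x.map _ ≫ x.map _
        rw [(AlgSt.overMap (totHom G)).map_comp, x.map_comp]) }
  w := (BasedFunctor.comp (AlgSt.overMap (totHom G)) x).w

/-- The comparison functor. -/
noncomputable def cmp : FibCat.overCat (tot G) ⥤ᵇ FibCat.fp x (FibCat.inertiaToBase π) :=
  FibCat.fpLift (AlgSt.overMap (totHom G)) (toInertia π x G r)
    (Iso.refl (BasedFunctor.comp (AlgSt.overMap (totHom G)) x) :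
      BasedFunctor.comp (AlgSt.overMap (totHom G)) x ≅
        BasedFunctor.comp (toInertia π x G r) (FibCat.inertiaToBase π))

/-- The group element over `T` as an automorphism over the identity. -/
def toAutO {y : 𝒳.obj} (α : y ≅ y) (hα : Vert 𝒳.p α.hom) (hα' : Vert 𝒳.p α.inv) : Gerb.AutO y where
  hom := ⟨α.hom, hα⟩
  inv := ⟨α.inv, hα'⟩
  hom_inv_id := Functor.Fiber.hom_ext α.hom_inv_id
  inv_hom_id := Functor.Fiber.hom_ext α.inv_hom_id

theorem isEquivOver_cmp (h𝒳 : FibCat.IsFibGrpd 𝒳.p) : FibCat.IsEquivOver (cmp π x G r) := by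
  have hI := K735.Setoid.isFibGrpd_inertia h𝒳 (isFibGrpd_overCat U) π
  refine isEquivOver_of_vert (isFibGrpd_overCat _) (isFibGrpd_fp (isFibGrpd_overCat U) hI h𝒳 x _) ?_ ?_ ?_
  · intro a b φ ψ hφ hψ _
    apply Over.OverMorphism.ext
    exact hφ.map_eq.trans hψ.map_eq.symm
  · intro a b φ hφ
    let h : (AlgSt.overMap (totHom G)).obj a ⟶ (AlgSt.overMap (totHom G)).obj b := φ.hom.fst
    have hh : Vert (FibCat.overCat U).p h := (vert_fp_iff φ).1 hφ
    have hi : IsIso (x.map h) := (hh.map x).isIso h𝒳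
    have w : x.map h ≫ 𝟙 _ = 𝟙 _ ≫ φ.hom.snd.hom := φ.hom.w
    rw [Category.comp_id, Category.id_comp] at w
    have c : (autIso (r.iso _ (secOf G a))).hom ≫ φ.hom.snd.hom =
      φ.hom.snd.hom ≫ (autIso (r.iso _ (secOf G b))).hom := φ.hom.snd.comm
    rw [← w] at c
    have n := r.natural h (secOf G b)
    have e1 : r.iso _ ((Gerb.ptsGrp U G).map h.op (secOf G b)) = r.iso _ (secOf G a) := by
      apply Aut.ext
      apply Functor.Fiber.hom_ext
      have : (r.iso _ ((Gerb.ptsGrp U G).map h.op (secOf G b))).hom.1 ≫ x.map h =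
        (r.iso _ (secOf G a)).hom.1 ≫ x.map h := n.trans c.symm
      exact (cancel_mono (x.map h)).1 this
    have e2 := (r.iso _).injective e1
    have e3 : h.left.left ≫ b.hom.left = a.hom.left := congrArg (fun t => CommaMorphism.left t) e2
    refine ⟨Over.homMk h.left (Over.OverMorphism.ext e3), ?_⟩
    refine fp_hom_ext (Over.OverMorphism.ext rfl) (FibCat.InertiaObj.hom_ext ?_)
    rw [← w]
    rfl
  · intro y
    let T : Over U := y.obj.fst
    let p : FibCat.InertiaObj π := y.obj.snd
    let θ : x.obj T ≅ p.pt := y.obj.iso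
    have hθ : Vert 𝒳.p θ.hom := fp_vert y
    have hp : Vert 𝒳.p p.aut.hom := by
      rw [← vert_map_iff π, p.map_aut]
      exact vert_id _
    let α : x.obj T ≅ x.obj T := θ ≪≫ p.aut ≪≫ θ.symm
    have hα : Vert 𝒳.p α.hom := hθ.comp (hp.comp (Vert.iso_inv hθ))
    let a : (Over.iteratedSliceForward U).obj T ⟶ G := (r.iso T).symm (toAutO α hα (Vert.iso_inv hα))
    have ha : a.left ≫ G.hom = T.hom.left := Over.w a
    let k : (FibCat.overCat (tot G)).obj := Over.mk (Over.homMk a.left (by
      change a.left ≫ G.hom ≫ U.hom = T.left.hom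
      rw [← Category.assoc, ha]
      exact Over.w T.hom) : T.left ⟶ tot G)
    let m : (AlgSt.overMap (totHom G)).obj k ⟶ T := Over.homMk (𝟙 _) (by
      apply Over.OverMorphism.ext
      change 𝟙 _ ≫ T.hom.left = a.left ≫ G.hom
      rw [ha, Category.id_comp])
    have n := r.natural m a
    have e1 : (Gerb.ptsGrp U G).map m.op a = secOf G k := by
      apply Over.OverMorphism.ext
      change 𝟙 _ ≫ a.left = a.left
      rw [Category.id_comp]
    have e2 : (r.iso T a).hom.1 = α.hom := by
      have : r.iso T a = toAutO α hα (Vert.iso_inv hα) := (r.iso T).apply_symm_apply _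
      rw [this]
      rfl
    rw [e1, e2] at n
    refine ⟨k, homFp m ⟨x.map m ≫ θ.hom, ?_⟩ ?_, ?_⟩
    · change (r.iso _ (secOf G k)).hom.1 ≫ x.map m ≫ θ.hom = (x.map m ≫ θ.hom) ≫ p.aut.hom
      rw [← Category.assoc, n]
      simp [α]
    · change x.map m ≫ θ.hom = 𝟙 _ ≫ x.map m ≫ θ.hom
      rw [Category.id_comp]
    · rw [vert_fp_iff]
      refine vert_of_map_eq rfl ?_
      rfl

include x r in
/-- A property of the inertia is inherited by the automorphism group scheme. -/
theorem prop_of_autRep (h𝒳 : FibCat.IsFibGrpd 𝒳.p) {P : MorphismProperty Scheme.{u}} (hP : K894.GoodP.Good S P)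
    (h : AlgSt.RepByAlgSpWith (AlgSp.LocP P) (FibCat.inertiaToBase π)) : P G.hom := by
  have h1 := (K894.Loc.of_rep hP.bc (h U x) (BasedFunctor.comp (AlgSt.toOverCat (tot G)) (cmp π x G r))
    (IsEquivOver.comp (isEquivOver_toOverCat _) (isEquivOver_cmp π x G r h𝒳))).2
  have h2 : AlgSt.spMapOfOver (BasedFunctor.comp (BasedFunctor.comp (AlgSt.toOverCat (tot G)) (cmp π x G r))
      (FibCat.fpFst x (FibCat.inertiaToBase π))) = (AlgSp.yon S).map (totHom G) := by
    apply ObjectProperty.hom_ext
    apply NatTrans.ext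
    funext T
    ext x
    apply ULift.ext
    change eqToHom _ ≫ (x.down ≫ totHom G) = x.down ≫ totHom G
    simp
  rw [h2] at h1
  exact AlgSp.locP_yon_map h1

end K894.AutRep
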