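import Groth.Agent.Gerb.K894.CoreA
import Groth.Agent.S12763
import Groth.Agent.S12780
import Groth.Agent.S12939

/-!
# The inertia and the diagonal of a gerbe are flat and locally of finite presentation (helper894)
-/

set_option autoImplicit false
set_option backward.isDefEq.respectTransparency false
set_option backward.isDefEq.respectTransparency.types false

universe v₄ u₄ v₃ u₃ v₂ u₂ v u

open CategoryTheory CategoryTheory.Limits AlgebraicGeometry Opposite K735.Fib K735.Fp K735.Rep K735.Pts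

namespace K894.Core

open K894.GoodP K894.BCRep K594.Cover K894.Loc K894.LocSurj K894.Span

variable {S : Scheme.{u}}

variable {𝒳 𝒴 : AlgSt.Cat S}

theorem repByAlgSp1_inertia {f : 𝒳 ⥤ᵇ 𝒴} (hΔ : AlgSt.RepByAlgSp1 (FibCat.diag f)) :
    AlgSt.RepByAlgSp1 (FibCat.inertiaToBase f) :=
  (K894.Inertia.inertia_isCart f).repByAlgSp1 hΔ

/-- The local step: where the tautological section has `P`, the automorphism space has `P`. -/
theorem local_step {P : MorphismProperty Scheme.{u}} (hP : Good S P) (f : 𝒳 ⥤ᵇ 𝒴)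
    (hΔ : AlgSt.RepByAlgSp1 (FibCat.diag f)) {U T : Over S} (x : FibCat.overCat U ⥤ᵇ 𝒳) (s : T ⟶ U)
    (h : AlgSt.RepByAlgSpWith (AlgSp.LocP P) (BasedFunctor.comp (AlgSt.overMap s) (K894.Retract.sec x f))) :
    RepOver (AlgSp.LocP P) (FibCat.fpFst (BasedFunctor.comp (AlgSt.overMap s) x) (FibCat.inertiaToBase f)) :=
  K894.RetractSp.repOver_of_retract hP.retr _ _ (K894.Retract.incl (AlgSt.overMap s) x f)
    (K894.Retract.retr (AlgSt.overMap s) x f) (K894.Retract.inclRetr (AlgSt.overMap s) x f) (Iso.refl _)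
    (repByAlgSp1_inertia hΔ T _) (h T _)

open K894.Formal in
/-- The relative inertia of a gerbe of algebraic stacks is flat (locally of finite presentation, ...). -/
theorem repByAlgSpWith_inertia {P : MorphismProperty Scheme.{u}} (hP : Good S P) (hP' : K597.EtLoc P)
    [P.IsStableUnderBaseChange] (hfp : ∀ ⦃A B : Scheme.{u}⦄ (g : A ⟶ B), Flat g → LocallyOfFinitePresentation g → P g)
    (h𝒳 : AlgSt.IsAlgStack Scheme.fppfPrecoverage 𝒳) (h𝒴 : AlgSt.IsAlgStack Scheme.fppfPrecoverage 𝒴)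
    (f : 𝒳 ⥤ᵇ 𝒴) (hf : Gerb.IsGerbeOver (QuotSh.J Scheme.fppfPrecoverage S) f) :
    AlgSt.RepByAlgSpWith (AlgSp.LocP P) (FibCat.inertiaToBase f) := by
  intro U x
  have i1 : FibCat.IsFibGrpd 𝒳.p := h𝒳.isStack.1
  have i2 : FibCat.IsFibGrpd 𝒴.p := h𝒴.isStack.1
  have i3 : FibCat.IsFibGrpd (FibCat.overCat U).p := isFibGrpd_overCat U
  have hΔ : AlgSt.RepByAlgSp1 (FibCat.diag f) := repByAlgSp1_of_with (Groth.Agent.S12939.result S 𝒳 𝒴 h𝒳 h𝒴 f)
  have h𝒳U : AlgSt.IsAlgStack Scheme.fppfPrecoverage (FibCat.fp (BasedFunctor.comp x f) f) :=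
    Groth.Agent.S12763.result h𝒴.isStack h𝒴.diag (isAlgStack_overCat U) h𝒳 _ _
  have hU := h𝒳U.isStack.1
  obtain ⟨V, v, hv₁, hv₂⟩ := h𝒳U.atlas
  have i4 : FibCat.IsFibGrpd (FibCat.overCat V).p := isFibGrpd_overCat V
  have hmono : ∀ {Q : MorphismProperty Scheme.{u}}, @Smooth ≤ Q → AlgSt.RepByAlgSpWith (AlgSp.LocP Q) v :=
    fun hQ => AlgSt_RepByAlgSpWith_mono (fun _ _ _ h => K597.locP_mono hQ h) hv₁
  let π := FibCat.fpFst (BasedFunctor.comp x f) f
  let σ := K894.Retract.sec x f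
  let b := v.obj (idObj V)
  have hπ : Gerb.IsGerbeOver (QuotSh.J Scheme.fppfPrecoverage S) π := isGerbeOver_fpFst _ hf
  obtain ⟨R, hR, hloc⟩ := hπ.2 b (σ.obj (π.obj b)) (𝟙 (π.obj b)) (IsHomLift.id (π.w_obj b))
  obtain ⟨ι, T, g, hg, hgR⟩ := exists_fam_of_mem hR
  choose x₀ φ ψ hφ hψ hw using fun i => hloc (g i) (hgR i)
  have hx₀ : ∀ i, (FibCat.fp (BasedFunctor.comp x f) f).p.obj (x₀ i) = T i := fun i =>
    IsHomLift.domain_eq (FibCat.fp (BasedFunctor.comp x f) f).p (g i) (φ i)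
  have hvb : (FibCat.fp (BasedFunctor.comp x f) f).p.obj b = V := v.w_obj (idObj V)
  let t : ∀ i, T i ⟶ V := fun i => eqToHom (hx₀ i).symm ≫ (FibCat.fp (BasedFunctor.comp x f) f).p.map (φ i) ≫
    eqToHom (v.w_obj (idObj V)) ≫ (idObj V).hom
  let s : ∀ i, T i ⟶ U := fun i => eqToHom (hx₀ i).symm ≫ (FibCat.fp (BasedFunctor.comp x f) f).p.map (ψ i) ≫
    eqToHom (σ.w_obj (π.obj b)) ≫ (π.obj b).hom
  have iso : ∀ i, Nonempty (BasedFunctor.comp (AlgSt.overMap (s i)) σ ≅ BasedFunctor.comp (AlgSt.overMap (t i)) v) :=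
    fun i => iso_of_span hU v σ (idObj V) (π.obj b) (x₀ i) (hx₀ i) (φ i) (ψ i) (t i) (s i) rfl rfl
  have ht' : ∀ i, t i = (Iso.refl (T i)).hom ≫ g i ≫ (eqToIso hvb).hom := fun i => by
    have := IsHomLift.fac' (FibCat.fp (BasedFunctor.comp x f) f).p (g i) (φ i)
    dsimp only [t]
    rw [this]
    change _ ≫ (_ ≫ _ ≫ _) ≫ _ ≫ 𝟙 V = _
    simp
  have ht : Fam t := by
    have := fam_of_iso hg (eqToIso hvb) (fun i => Iso.refl (T i))
    have e : t = fun i => (Iso.refl (T i)).hom ≫ g i ≫ (eqToIso hvb).hom := funext ht'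
    rw [e]
    exact this
  have hlocal : ∀ i, RepOver (AlgSp.LocP P)
      (FibCat.fpFst (BasedFunctor.comp (AlgSt.overMap (s i)) x) (FibCat.inertiaToBase f)) := fun i => by
    obtain ⟨e⟩ := iso i
    refine local_step hP f hΔ x (s i) (repByAlgSpWith_of_iso _ e.symm ?_)
    exact Groth.Agent.S12780.result (isFibGrpd_overCat _) (isFibGrpd_overCat _) hU (AlgSp.LocP P) hP.bc hP.comp hP.loc
      (AlgSt.overMap (t i)) v (repByAlgSpWith_overMap hP hP' (t i) (hfp _ (ht.flat i) (ht.lfp i))) (hmono hP.smooth)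
  -- the covering sieve
  let w : V ⟶ U := eqToHom (v.w_obj (idObj V)).symm ≫ (π.obj b).hom
  have key1 : ∀ i, s i = t i ≫ w := fun i => by
    have h1 : (π.map (φ i)).left = (π.map (ψ i)).left := congrArg CommaMorphism.left
      ((Category.comp_id (π.map (φ i))).symm.trans (hw i))
    have h2 : (FibCat.fp (BasedFunctor.comp x f) f).p.map (φ i) = (π.map (φ i)).left := rfl
    have h3 : (FibCat.fp (BasedFunctor.comp x f) f).p.map (ψ i) = (π.map (ψ i)).left := rfl
    dsimp only [s, t, w]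
    rw [h3, ← h1, ← h2]
    change _ ≫ _ ≫ 𝟙 _ ≫ _ = (_ ≫ _ ≫ _ ≫ 𝟙 V) ≫ _
    simp
  have hvs : Gerb.LocSurjObj (QuotSh.J Scheme.fppfPrecoverage S) v :=
    locSurjObj_of_rep (h𝒴 := hU) v (hmono (good_flat S).smooth) (hmono (good_lfp S).smooth) hv₂
  have hcov : Sieve.ofArrows T s ∈ (QuotSh.J Scheme.fppfPrecoverage S) U := by
    have hσ : (FibCat.fp (BasedFunctor.comp x f) f).p.obj (σ.obj (idObj U)) = U := rfl
    refine GrothendieckTopology.transitive _ (surjSieve_mem_of hvs (σ.obj (idObj U)) hσ) _ ?_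
    rintro A h ⟨c, k, hk⟩
    have hA : (FibCat.fp (BasedFunctor.comp x f) f).p.obj (v.obj c) = A :=
      IsHomLift.domain_eq (FibCat.fp (BasedFunctor.comp x f) f).p h k
    have hcA : c.left = A := (v.w_obj c).symm.trans hA
    let m : A ⟶ V := eqToHom hcA.symm ≫ c.hom
    have key2 : m ≫ w = h := by
      have e1 : (π.map k).left ≫ 𝟙 U = (π.obj (v.obj c)).hom := Over.w (π.map k)
      have e2 : (π.map k).left = eqToHom hA ≫ h ≫ 𝟙 U :=
        IsHomLift.fac' (FibCat.fp (BasedFunctor.comp x f) f).p h k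
      have e3 : (π.map (v.map (toId c))).left ≫ (π.obj b).hom = (π.obj (v.obj c)).hom := Over.w (π.map (v.map (toId c)))
      have e4 : (π.map (v.map (toId c))).left = eqToHom (v.w_obj c) ≫ c.hom ≫ eqToHom (v.w_obj (idObj V)).symm :=
        map_map v (toId c)
      rw [e2, Category.comp_id] at e1
      rw [e4, ← e1] at e3
      dsimp only [m, w]
      rw [← cancel_epi (eqToHom hA)]
      have e5 := e3.trans (Category.comp_id (eqToHom hA ≫ h))
      refine Eq.trans ?_ e5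
      simp
    refine GrothendieckTopology.superset_covering _ ?_ (GrothendieckTopology.pullback_stable _ m ht.mem)
    rintro B k' ⟨_, l, _, ⟨i⟩, e⟩
    refine ⟨_, l, s i, ⟨i⟩, ?_⟩
    rw [key1, ← Category.assoc, e, Category.assoc, key2]
  refine repOver_fp_of_sieve hP.loc hP.bc (FibCat.inertiaToBase f) x (repByAlgSp1_inertia hΔ U x) hcov ?_
  rintro B s' ⟨_, l, _, ⟨i⟩, rfl⟩
  refine repOver_congr ?_ _ (repOver_bc hP.bc l _ _ (hlocal i))
  exact (whiskerRightIso (overMapComp l (s i)) x :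
    BasedFunctor.comp (BasedFunctor.comp (AlgSt.overMap l) (AlgSt.overMap (s i))) x ≅ _)

end K894.Core
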