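import Groth.Agent.AlgSt.K743.BC

/-!
# The relative inertia is the self-intersection of the diagonal (helper894)

`inertia f ⟶ 𝒳` is the 2-base change of `diag f` along `diag f`.
-/

set_option autoImplicit false
set_option backward.isDefEq.respectTransparency false
set_option backward.isDefEq.respectTransparency.types false

universe v₃ u₃ v₂ u₂ v u

open CategoryTheory CategoryTheory.Limits AlgebraicGeometry

namespace K894.Inertia

open K743.BC

variable {C : Type u} [Category.{v} C] {𝒳 : BasedCategory.{v₂, u₂} C} {𝒴 : BasedCategory.{v₃, u₃} C}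
  (f : 𝒳 ⥤ᵇ 𝒴)

theorem e_w (z : FibCat.InertiaObj f) :
    f.map z.aut.hom ≫ 𝟙 (f.obj z.pt) = 𝟙 (f.obj z.pt) ≫ f.map (𝟙 z.pt) := by
  rw [z.map_aut, f.map_id]

/-- The tautological 2-automorphism of `inertiaToBase f ⋙ diag f`. -/
def tautE : BasedFunctor.comp (FibCat.inertiaToBase f) (FibCat.diag f) ≅
    BasedFunctor.comp (FibCat.inertiaToBase f) (FibCat.diag f) :=
  BasedNatIso.mkNatIso
    (NatIso.ofComponents (fun z => ObjectProperty.isoMk _
      (CategoricalPullback.mkIso z.aut (Iso.refl z.pt) (e_w f z)))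
      (fun {z z'} φ => by
        apply ObjectProperty.hom_ext
        apply CategoricalPullback.hom_ext
        · exact φ.comm.symm
        · change φ.hom ≫ 𝟙 _ = 𝟙 _ ≫ φ.hom
          simp))
    (fun z => by
      rw [← BasedFunctor.isHomLift_iff (FibCat.fpSnd f f)]
      change 𝒳.p.IsHomLift (𝟙 (𝒳.p.obj z.pt)) (𝟙 z.pt)
      exact IsHomLift.id rfl)

theorem inertia_isCart : IsCart (FibCat.inertiaToBase f) (FibCat.diag f) (FibCat.inertiaToBase f) (FibCat.diag f)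
    (tautE f) where
  full := ⟨by
    intro z z' φ
    let α : z.pt ⟶ z'.pt := φ.hom.fst
    let β : z.pt ⟶ z'.pt := φ.hom.snd
    have w1 : α ≫ z'.aut.hom = z.aut.hom ≫ β := congrArg (fun t => t.hom.fst) φ.hom.w
    have w2 : α ≫ 𝟙 _ = 𝟙 _ ≫ β := congrArg (fun t => t.hom.snd) φ.hom.w
    rw [Category.comp_id, Category.id_comp] at w2
    refine ⟨⟨α, by rw [w1, w2]⟩, ?_⟩
    apply ObjectProperty.hom_ext
    exact CategoricalPullback.hom_ext rfl w2⟩
  faithful := ⟨by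
    intro z z' φ ψ h
    exact FibCat.InertiaObj.hom_ext (congrArg (fun t => t.hom.fst) h)⟩
  surj := by
    intro ζ
    have hζ := ζ.property
    let θ₁ : ζ.obj.fst ≅ ζ.obj.snd := (FibCat.fpFst f f).mapIso ζ.obj.iso
    let θ₂ : ζ.obj.fst ≅ ζ.obj.snd := (FibCat.fpSnd f f).mapIso ζ.obj.iso
    have w : f.map θ₁.hom ≫ 𝟙 _ = 𝟙 _ ≫ f.map θ₂.hom := ζ.obj.iso.hom.hom.w
    rw [Category.comp_id, Category.id_comp] at w
    have hα : f.map (θ₁ ≪≫ θ₂.symm).hom = 𝟙 _ := by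
      change f.map (θ₁.hom ≫ θ₂.inv) = _
      rw [f.map_comp, w, ← f.map_comp, θ₂.hom_inv_id, f.map_id]
    refine ⟨⟨ζ.obj.fst, θ₁ ≪≫ θ₂.symm, hα⟩,
      ObjectProperty.isoMk _ (CategoricalPullback.mkIso (Iso.refl ζ.obj.fst) θ₂ ?_), ?_⟩
    · apply ObjectProperty.hom_ext
      apply CategoricalPullback.hom_ext
      · change 𝟙 _ ≫ θ₁.hom = (θ₁.hom ≫ θ₂.inv) ≫ θ₂.hom
        simp
      · change 𝟙 _ ≫ θ₂.hom = 𝟙 _ ≫ θ₂.hom
        rfl
    · rw [← BasedFunctor.isHomLift_iff (FibCat.fpFst (FibCat.diag f) (FibCat.diag f))]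
      change 𝒳.p.IsHomLift (𝟙 (𝒳.p.obj ζ.obj.fst)) (𝟙 ζ.obj.fst)
      exact IsHomLift.id rfl

end K894.Inertia
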