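import Groth.Agent.Gerb.K894.Formal
import Groth.Agent.Gerb.K894.Loc
import Groth.Agent.AlgSt.K735.Top

/-!
# Flat, locally finitely presented, surjective functors are locally essentially surjective (helper894)
-/

set_option autoImplicit false
set_option backward.isDefEq.respectTransparency false
set_option backward.isDefEq.respectTransparency.types false

universe v₄ u₄ v₃ u₃ v₂ u₂ v u

open CategoryTheory CategoryTheory.Limits AlgebraicGeometry Opposite K735.Fib K735.Fp K735.Rep K735.Pts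

namespace K894.LocSurj

open K894.GoodP K894.BCRep K594.Cover K894.Loc

variable {S : Scheme.{u}} {𝒲 : BasedCategory.{v₂, u₂} (Over S)}

/-- A scheme chart which is an fppf cover of the base, from a representation. -/
theorem exists_cov_of_repOver {U : Over S} {w : 𝒲 ⥤ᵇ FibCat.overCat U}
    (h₁ : RepOver (AlgSp.LocP @Flat) w) (h₂ : RepOver (AlgSp.LocP @LocallyOfFinitePresentation) w)
    (h₃ : RepOver AlgSp.IsSurjectiveMor w) :
    ∃ (A : Over S) (a : A ⟶ U) (z : 𝒲.obj) (k : w.obj z ⟶ idObj U), Cov a ∧ (FibCat.overCat U).p.IsHomLift a k := by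
  obtain ⟨F, e, he, hq₁⟩ := h₁
  have := K735.Top.locP_respectsIso (S := S) @LocallyOfFinitePresentation
  have := K735.Top.isSurjectiveMor_respectsIso (S := S)
  have hq₂ := (RepOver.of_rep h₂ e he).2
  have hq₃ := (RepOver.of_rep h₃ e he).2
  set q := AlgSt.spMapOfOver (BasedFunctor.comp e w) with hq
  obtain ⟨A, p, hp, hps⟩ := F.property.atlas
  obtain ⟨a, ha⟩ := (AlgSp.yon S).map_surjective (p ≫ q)
  have h1 : Flat a.left := K735.Top.locP_chart hq₁ hp ha.symm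
  have h2 : LocallyOfFinitePresentation a.left := K735.Top.locP_chart hq₂ hp ha.symm
  have h3 : Surjective a.left := ⟨fun u => by
    obtain ⟨ξ, hξ⟩ := hq₃ (AlgSp.Points.ofPt (𝟙 _) u)
    obtain ⟨t, rfl⟩ := K629.Basic.ofPt_surjective hps ξ
    refine ⟨t, ?_⟩
    rw [AlgSp.Points.map_ofPt, ← ha, ← Category.comp_id ((AlgSp.yon S).map a), K629.Basic.ofPt_comp] at hξ
    exact (AlgSp.Points.schemeEquiv U).injective hξ⟩
  let s : F.obj.obj.obj (op A) := (AlgSp.J S).uliftYonedaEquiv p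
  let z : 𝒲.obj := e.obj ⟨A, s⟩
  have hz : (w.obj z).left = A := (BasedFunctor.comp e w).w_obj ⟨A, s⟩
  have hs : eqToHom hz.symm ≫ (w.obj z).hom = a := by
    have e1 : q.hom.app (op A) s = ((AlgSp.yon S).map a).hom.app (op A) ⟨𝟙 A⟩ := by
      rw [ha]
      rfl
    have e2 := congrArg ULift.down e1
    change eqToHom hz.symm ≫ (w.obj z).hom = 𝟙 A ≫ a at e2
    rw [e2, Category.id_comp]
  refine ⟨A, a, z, toId (w.obj z), ⟨h1, h2, h3⟩, ?_⟩
  refine IsHomLift.of_fac' _ _ _ hz rfl ?_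
  rw [← hs]
  simp
  rfl

variable {𝒳 : BasedCategory.{v₃, u₃} (Over S)} {𝒴 : BasedCategory.{v₄, u₄} (Over S)}

open K894.Formal in
/-- A flat, locally finitely presented and surjective functor (representable by algebraic spaces) is locally
essentially surjective. -/
theorem locSurjObj_of_rep [FibCat.IsFibGrpd 𝒳.p] [h𝒴 : FibCat.IsFibGrpd 𝒴.p] (G : 𝒳 ⥤ᵇ 𝒴)
    (h₁ : AlgSt.RepByAlgSpWith (AlgSp.LocP @Flat) G)
    (h₂ : AlgSt.RepByAlgSpWith (AlgSp.LocP @LocallyOfFinitePresentation) G)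
    (h₃ : AlgSt.RepByAlgSpWith AlgSp.IsSurjectiveMor G) :
    Gerb.LocSurjObj (QuotSh.J Scheme.fppfPrecoverage S) G := by
  rw [locSurjObj_iff]
  intro y U hy
  obtain ⟨A, a, z, k, ha, hk⟩ := exists_cov_of_repOver (w := FibCat.fpFst (yonF h𝒴 y hy) G) (h₁ U _) (h₂ U _) (h₃ U _)
  refine GrothendieckTopology.superset_covering _ ?_ ha.fam.mem
  rw [Sieve.ofArrows, Sieve.generate_le_iff]
  rintro _ _ ⟨⟩
  have hzU : (FibCat.overCat U).p.obj z.obj.fst = A := IsHomLift.domain_eq (FibCat.overCat U).p a k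
  have h1 := isHomLift_iso z hzU
  have h2 : 𝒴.p.IsHomLift (𝟙 A) z.obj.iso.inv := IsHomLift.lift_id_inv _ _ _
  have h3 : 𝒴.p.IsHomLift a ((yonF h𝒴 y hy).map k) := BasedFunctor.preserves_isHomLift _ _ _
  have h4 : 𝒴.p.IsHomLift (𝟙 U) (yonFIso h𝒴 y hy).hom := (vert_yonFIso h𝒴 y hy).isHomLift' hy
  have h5 : 𝒴.p.IsHomLift (a ≫ 𝟙 U) ((yonF h𝒴 y hy).map k ≫ (yonFIso h𝒴 y hy).hom) := inferInstance
  rw [Category.comp_id] at h5
  have h6 : 𝒴.p.IsHomLift (𝟙 A ≫ a) (z.obj.iso.inv ≫ (yonF h𝒴 y hy).map k ≫ (yonFIso h𝒴 y hy).hom) := inferInstance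
  rw [Category.id_comp] at h6
  exact ⟨z.obj.snd, _, h6⟩

end K894.LocSurj
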