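import Groth.Agent.Gerb.K894.Formal

/-!
# The automorphism category of a section is a retract of a self-fibre-product (helper894)

`x : 𝒰 ⥤ᵇ 𝒳`, `f : 𝒳 ⥤ᵇ 𝒴`, `sec : 𝒰 ⥤ᵇ fp (x ⋙ f) f` the tautological section of the base change of `f` to `𝒰`,
`c : 𝒯 ⥤ᵇ 𝒰`.  Then over `𝒯` the automorphism category `fp (c ⋙ x) (inertiaToBase f)` is a retract of
`fp (c ⋙ sec) (c ⋙ sec)`.
-/

set_option autoImplicit false
set_option backward.isDefEq.respectTransparency false
set_option backward.isDefEq.respectTransparency.types false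

universe v₅ u₅ v₄ u₄ v₃ u₃ v₂ u₂ v u

open CategoryTheory

namespace K894.Retract

open K894.Formal

variable {C : Type u} [Category.{v} C]
  {𝒳 : BasedCategory.{v₂, u₂} C} {𝒴 : BasedCategory.{v₃, u₃} C} {𝒰 : BasedCategory.{v₄, u₄} C}
  {𝒯 : BasedCategory.{v₅, u₅} C}

/-- The tautological section `u ↦ (u, x u, 𝟙)` of the base change of `f` along `x ⋙ f`. -/
def sec (x : 𝒰 ⥤ᵇ 𝒳) (f : 𝒳 ⥤ᵇ 𝒴) : 𝒰 ⥤ᵇ FibCat.fp (BasedFunctor.comp x f) f :=
  FibCat.fpLift (BasedFunctor.id 𝒰) x (Iso.refl _)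

variable (c : 𝒯 ⥤ᵇ 𝒰) (x : 𝒰 ⥤ᵇ 𝒳) (f : 𝒳 ⥤ᵇ 𝒴)

@[simp] theorem sec_obj_fst (u : 𝒰.obj) : ((sec x f).obj u).obj.fst = u := rfl
@[simp] theorem sec_obj_snd (u : 𝒰.obj) : ((sec x f).obj u).obj.snd = x.obj u := rfl
@[simp] theorem sec_map_fst {u u' : 𝒰.obj} (g : u ⟶ u') : ((sec x f).map g).hom.fst = g := rfl
@[simp] theorem sec_map_snd {u u' : 𝒰.obj} (g : u ⟶ u') : ((sec x f).map g).hom.snd = x.map g := rfl

/-- the isomorphism of `(sec x f) u` with itself given by an automorphism of `x u` killed by `f` -/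
def autIso (u : 𝒰.obj) (α : x.obj u ≅ x.obj u) (hα : f.map α.hom = 𝟙 _) :
    (sec x f).obj u ≅ (sec x f).obj u :=
  ObjectProperty.isoMk _ (Limits.CategoricalPullback.mkIso (Iso.refl _) α (by
    change (BasedFunctor.comp x f).map (𝟙 u) ≫ 𝟙 _ = 𝟙 _ ≫ f.map α.hom
    rw [hα, (BasedFunctor.comp x f).map_id]; rfl))

@[simp] theorem autIso_hom_fst (u : 𝒰.obj) (α : x.obj u ≅ x.obj u) (hα : f.map α.hom = 𝟙 _) :
    (autIso x f u α hα).hom.hom.fst = 𝟙 u := rfl
@[simp] theorem autIso_hom_snd (u : 𝒰.obj) (α : x.obj u ≅ x.obj u) (hα : f.map α.hom = 𝟙 _) :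
    (autIso x f u α hα).hom.hom.snd = α.hom := rfl

theorem map_conj (u : 𝒰.obj) (z : FibCat.InertiaObj f) (ψ : x.obj u ≅ z.pt) :
    f.map (ψ.hom ≫ z.aut.hom ≫ ψ.inv) = 𝟙 _ := by
  rw [f.map_comp, f.map_comp, z.map_aut, Category.id_comp, ← f.map_comp, ψ.hom_inv_id, f.map_id]

/-- the conjugate automorphism -/
@[simps] def conj (u : 𝒰.obj) (z : FibCat.InertiaObj f) (ψ : x.obj u ≅ z.pt) : x.obj u ≅ x.obj u where
  hom := ψ.hom ≫ z.aut.hom ≫ ψ.inv
  inv := ψ.hom ≫ z.aut.inv ≫ ψ.inv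

/-- `(a, (z, α), ψ) ↦ (a, a, ψ α ψ⁻¹)`. -/
def incl : FibCat.fp (BasedFunctor.comp c x) (FibCat.inertiaToBase f) ⥤ᵇ
    FibCat.fp (BasedFunctor.comp c (sec x f)) (BasedFunctor.comp c (sec x f)) where
  toFunctor :=
    { obj := fun A => mkObj (BasedFunctor.comp c (sec x f)) (BasedFunctor.comp c (sec x f)) A.obj.fst A.obj.fst
        (autIso x f (c.obj A.obj.fst) (conj x f _ A.obj.snd A.obj.iso) (map_conj x f _ A.obj.snd A.obj.iso))
        (by
          rw [isHomLift_hom_iff]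
          exact (IsHomLift.id (c.w_obj A.obj.fst) : 𝒰.p.IsHomLift _ (𝟙 (c.obj A.obj.fst))))
      map := fun {A B} g => mkHom g.hom.fst g.hom.fst (by
        apply fp_hom_ext
        · change c.map g.hom.fst ≫ 𝟙 _ = 𝟙 _ ≫ c.map g.hom.fst
          simp
        · change x.map (c.map g.hom.fst) ≫ B.obj.iso.hom ≫ B.obj.snd.aut.hom ≫ B.obj.iso.inv =
            (A.obj.iso.hom ≫ A.obj.snd.aut.hom ≫ A.obj.iso.inv) ≫ x.map (c.map g.hom.fst)
          have h1 : x.map (c.map g.hom.fst) ≫ B.obj.iso.hom = A.obj.iso.hom ≫ g.hom.snd.hom := g.hom.w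
          have h2 : g.hom.snd.hom ≫ B.obj.iso.inv = A.obj.iso.inv ≫ x.map (c.map g.hom.fst) := g.hom.w'
          have h3 := g.hom.snd.comm
          rw [← Category.assoc, h1, Category.assoc, ← Category.assoc g.hom.snd.hom, ← h3, Category.assoc, h2]
          simp)
      map_id := fun A => by
        apply fp_hom_ext <;> rfl
      map_comp := fun g g' => by
        apply fp_hom_ext <;> rfl }
  w := rfl

/-- the automorphism of `x (c a)` attached to an isomorphism of sections -/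
@[simps] def autOf (A : (FibCat.fp (BasedFunctor.comp c (sec x f)) (BasedFunctor.comp c (sec x f))).obj) :
    x.obj (c.obj A.obj.fst) ≅ x.obj (c.obj A.obj.fst) where
  hom := A.obj.iso.hom.hom.snd ≫ x.map A.obj.iso.inv.hom.fst
  inv := x.map A.obj.iso.hom.hom.fst ≫ A.obj.iso.inv.hom.snd
  hom_inv_id := by
    have h1 : A.obj.iso.inv.hom.fst ≫ A.obj.iso.hom.hom.fst = 𝟙 _ :=
      congrArg (fun s => s.hom.fst) A.obj.iso.inv_hom_id
    have h2 : A.obj.iso.hom.hom.snd ≫ A.obj.iso.inv.hom.snd = 𝟙 _ :=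
      congrArg (fun s => s.hom.snd) A.obj.iso.hom_inv_id
    rw [Category.assoc, ← Category.assoc (x.map _), ← x.map_comp, h1]
    change _ ≫ x.map (𝟙 (c.obj A.obj.snd)) ≫ _ = _
    rw [x.map_id]
    erw [Category.id_comp]
    exact h2
  inv_hom_id := by
    have h1 : A.obj.iso.inv.hom.snd ≫ A.obj.iso.hom.hom.snd = 𝟙 _ :=
      congrArg (fun s => s.hom.snd) A.obj.iso.inv_hom_id
    have h2 : A.obj.iso.hom.hom.fst ≫ A.obj.iso.inv.hom.fst = 𝟙 _ :=
      congrArg (fun s => s.hom.fst) A.obj.iso.hom_inv_id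
    rw [Category.assoc, ← Category.assoc A.obj.iso.inv.hom.snd, h1]
    erw [Category.id_comp]
    rw [← x.map_comp, h2]
    exact x.map_id _

theorem map_autOf (A : (FibCat.fp (BasedFunctor.comp c (sec x f)) (BasedFunctor.comp c (sec x f))).obj) :
    f.map (autOf c x f A).hom = 𝟙 _ := by
  have h1 : f.map (x.map A.obj.iso.hom.hom.fst) ≫ 𝟙 _ = 𝟙 _ ≫ f.map A.obj.iso.hom.hom.snd :=
    A.obj.iso.hom.hom.w
  rw [Category.id_comp] at h1
  erw [Category.comp_id] at h1
  have h2 : A.obj.iso.hom.hom.fst ≫ A.obj.iso.inv.hom.fst = 𝟙 _ :=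
    congrArg (fun s => s.hom.fst) A.obj.iso.hom_inv_id
  change f.map (A.obj.iso.hom.hom.snd ≫ x.map A.obj.iso.inv.hom.fst) = _
  rw [f.map_comp]
  erw [← h1]
  rw [← f.map_comp, ← x.map_comp]
  erw [h2]
  rw [x.map_id]
  exact f.map_id _

/-- `(a, b, φ) ↦ (a, (x (c a), φ₂ ∘ x(φ₁)⁻¹), 𝟙)`. -/
def retr : FibCat.fp (BasedFunctor.comp c (sec x f)) (BasedFunctor.comp c (sec x f)) ⥤ᵇ
    FibCat.fp (BasedFunctor.comp c x) (FibCat.inertiaToBase f) where
  toFunctor :=
    { obj := fun A => mkObj (FibCat.inertiaToBase f) (BasedFunctor.comp c x) A.obj.fst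
        ⟨x.obj (c.obj A.obj.fst), autOf c x f A, map_autOf c x f A⟩ (Iso.refl _)
        (IsHomLift.id ((BasedFunctor.comp c x).w_obj A.obj.fst))
      map := fun {A B} g => mkHom (a := mkObj (FibCat.inertiaToBase f) (BasedFunctor.comp c x) A.obj.fst
          ⟨x.obj (c.obj A.obj.fst), autOf c x f A, map_autOf c x f A⟩ (Iso.refl _)
          (IsHomLift.id ((BasedFunctor.comp c x).w_obj A.obj.fst)))
        (b := mkObj (FibCat.inertiaToBase f) (BasedFunctor.comp c x) B.obj.fst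
          ⟨x.obj (c.obj B.obj.fst), autOf c x f B, map_autOf c x f B⟩ (Iso.refl _)
          (IsHomLift.id ((BasedFunctor.comp c x).w_obj B.obj.fst))) g.hom.fst
        ⟨x.map (c.map g.hom.fst), by
          have h1 : c.map g.hom.fst ≫ B.obj.iso.hom.hom.fst = A.obj.iso.hom.hom.fst ≫ c.map g.hom.snd :=
            congrArg (fun s => s.hom.fst) g.hom.w
          have h2 : x.map (c.map g.hom.fst) ≫ B.obj.iso.hom.hom.snd =
              A.obj.iso.hom.hom.snd ≫ x.map (c.map g.hom.snd) :=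
            congrArg (fun s => s.hom.snd) g.hom.w
          have h3 : c.map g.hom.snd ≫ B.obj.iso.inv.hom.fst = A.obj.iso.inv.hom.fst ≫ c.map g.hom.fst :=
            congrArg (fun s => s.hom.fst) g.hom.w'
          change (A.obj.iso.hom.hom.snd ≫ x.map A.obj.iso.inv.hom.fst) ≫ x.map (c.map g.hom.fst) =
            x.map (c.map g.hom.fst) ≫ B.obj.iso.hom.hom.snd ≫ x.map B.obj.iso.inv.hom.fst
          rw [← Category.assoc (x.map (c.map g.hom.fst)), h2, Category.assoc, Category.assoc, ← x.map_comp,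
            ← x.map_comp]
          erw [h3]⟩ (by
            change x.map (c.map g.hom.fst) ≫ 𝟙 _ = 𝟙 _ ≫ x.map (c.map g.hom.fst)
            simp)
      map_id := fun A => by
        apply fp_hom_ext
        · rfl
        · apply FibCat.InertiaObj.hom_ext
          change x.map (c.map (𝟙 A.obj.fst)) = 𝟙 _
          simp
      map_comp := fun g g' => by
        apply fp_hom_ext
        · rfl
        · apply FibCat.InertiaObj.hom_ext
          change x.map (c.map (g.hom.fst ≫ g'.hom.fst)) = x.map (c.map g.hom.fst) ≫ x.map (c.map g'.hom.fst)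
          simp }
  w := rfl

/-- the retraction -/
def inclRetr : BasedFunctor.comp (incl c x f) (retr c x f) ≅ BasedFunctor.id _ :=
  BasedNatIso.mkNatIso
    (NatIso.ofComponents
      (fun A => ObjectProperty.isoMk _ (Limits.CategoricalPullback.mkIso (Iso.refl _)
        { hom := ⟨A.obj.iso.hom, by
            change ((A.obj.iso.hom ≫ A.obj.snd.aut.hom ≫ A.obj.iso.inv) ≫ x.map (𝟙 (c.obj A.obj.fst))) ≫
              A.obj.iso.hom = A.obj.iso.hom ≫ A.obj.snd.aut.hom
            rw [x.map_id]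
            change ((A.obj.iso.hom ≫ A.obj.snd.aut.hom ≫ A.obj.iso.inv) ≫ 𝟙 ((BasedFunctor.comp c x).obj _)) ≫
              A.obj.iso.hom = A.obj.iso.hom ≫ A.obj.snd.aut.hom
            rw [Category.comp_id, Category.assoc, Category.assoc, A.obj.iso.inv_hom_id]
            erw [Category.comp_id]⟩
          inv := ⟨A.obj.iso.inv, by
            change A.obj.snd.aut.hom ≫ A.obj.iso.inv = A.obj.iso.inv ≫
              (A.obj.iso.hom ≫ A.obj.snd.aut.hom ≫ A.obj.iso.inv) ≫ x.map (𝟙 (c.obj A.obj.fst))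
            rw [x.map_id]
            change A.obj.snd.aut.hom ≫ A.obj.iso.inv = A.obj.iso.inv ≫
              (A.obj.iso.hom ≫ A.obj.snd.aut.hom ≫ A.obj.iso.inv) ≫ 𝟙 ((BasedFunctor.comp c x).obj _)
            rw [Category.comp_id, A.obj.iso.inv_hom_id_assoc]⟩
          hom_inv_id := FibCat.InertiaObj.hom_ext A.obj.iso.hom_inv_id
          inv_hom_id := FibCat.InertiaObj.hom_ext A.obj.iso.inv_hom_id }
        (by
          change x.map (c.map (𝟙 A.obj.fst)) ≫ A.obj.iso.hom = 𝟙 _ ≫ A.obj.iso.hom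
          simp)))
      (fun {A B} g => by
        apply fp_hom_ext
        · change g.hom.fst ≫ 𝟙 _ = 𝟙 _ ≫ g.hom.fst
          simp
        · apply FibCat.InertiaObj.hom_ext
          exact g.hom.w))
    (fun A => by
      rw [isHomLift_hom_iff]
      exact (inferInstance : 𝒯.p.IsHomLift (𝟙 (𝒯.p.obj A.obj.fst)) (𝟙 A.obj.fst)))

theorem incl_comp_fpFst : BasedFunctor.comp (incl c x f) (FibCat.fpFst _ _) =
    FibCat.fpFst (BasedFunctor.comp c x) (FibCat.inertiaToBase f) := rfl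

theorem retr_comp_fpFst : BasedFunctor.comp (retr c x f) (FibCat.fpFst _ _) =
    FibCat.fpFst (BasedFunctor.comp c (sec x f)) (BasedFunctor.comp c (sec x f)) := rfl

end K894.Retract
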