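import Groth.Agent.Gerb.K894.Formal
import Groth.Agent.AlgSt.K735.Pts
import Groth.Agent.AlgSp.K594.Cover
import Groth.Prelude.Def_StGerb

/-!
# A locally essentially surjective functor is surjective on points (helper894)
-/

set_option autoImplicit false
set_option backward.isDefEq.respectTransparency false
set_option backward.isDefEq.respectTransparency.types false

universe v₃ u₃ v₂ u₂ v u

open CategoryTheory CategoryTheory.Limits AlgebraicGeometry Opposite

namespace K894.Surj

open AlgSt

variable {S : Scheme.{u}} {𝒳 : BasedCategory.{v₂, u₂} (Over S)} {𝒴 : BasedCategory.{v₃, u₃} (Over S)}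

/-- A functor which is locally essentially surjective for the fppf topology is surjective on points. -/
theorem isSurjective_of_locSurjObj (F : 𝒳 ⥤ᵇ 𝒴)
    (hF : Gerb.LocSurjObj (QuotSh.J Scheme.fppfPrecoverage S) F) : AlgSt.IsSurjective F := by
  intro y
  obtain ⟨p, rfl⟩ := Points.mk_surjective y
  obtain ⟨R, hR, h⟩ := hF p.obj
  obtain ⟨ι, V, g, hg, hgR⟩ := K594.Cover.exists_fam_of_mem hR
  let t₀ : ↥(Spec (CommRingCat.of p.K)) := default
  let t : ↥(𝒴.p.obj p.obj).left := (eqToHom p.lies.symm).left t₀
  obtain ⟨i, v, hv⟩ := hg.surj t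
  let W : Over S := Over.mk ((V i).left.fromSpecResidueField v ≫ (V i).hom)
  let k : W ⟶ V i := Over.homMk ((V i).left.fromSpecResidueField v) rfl
  obtain ⟨x, g', hg'⟩ := h (k ≫ g i) (R.downward_closed (hgR i) k)
  have hx : 𝒳.p.obj x = W := (F.w_obj x).symm.trans (IsHomLift.domain_eq 𝒴.p (k ≫ g i) g')
  let q : FPt 𝒳 :=
    { K := ↥((V i).left.residueField v)
      str := (V i).left.fromSpecResidueField v ≫ (V i).hom
      obj := x
      lies := hx }
  exact ⟨Points.mk q, K735.Pts.mk_eq_of_hom (p := q.map F) (q := p) g'⟩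

end K894.Surj
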