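import Groth.Agent.Gerb.K894.Span
import Groth.Agent.Gerb.K894.LocSurj
import Groth.Agent.Gerb.K894.Inertia
import Groth.Agent.Gerb.K894.Surj
import Groth.Agent.Gerb.K894.Retract
import Groth.Agent.Stk.K751.OfPsh
import Groth.Agent.AlgSt.K744.AlgOver

/-!
# Slices: stack, `overMap`, composition of families (helper894)
-/

set_option autoImplicit false
set_option backward.isDefEq.respectTransparency false
set_option backward.isDefEq.respectTransparency.types false

universe v₄ u₄ v₃ u₃ v₂ u₂ v u

open CategoryTheory CategoryTheory.Limits AlgebraicGeometry Opposite K735.Fib K735.Fp K735.Rep K735.Pts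

namespace K894.Core

open K894.GoodP K894.BCRep K594.Cover K894.Loc K894.LocSurj K894.Span

variable {S : Scheme.{u}}

theorem isStack_overCat (U : Over S) : Stk.IsStack (QuotSh.J Scheme.fppfPrecoverage S) (FibCat.overCat U) :=
  (K751.OfPsh.isStack_overCat_iff U _).2
    (GrothendieckTopology.Subcanonical.isSheaf_of_isRepresentable (J := QuotSh.J Scheme.fppfPrecoverage S) _)

theorem repOver_id {P : MorphismProperty (AlgSp.Sp S)} (U : Over S) (h : P (𝟙 ((AlgSp.yon S).obj U))) :
    RepOver P (BasedFunctor.id (FibCat.overCat U)) :=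
  ⟨⟨_, AlgSp.IsAlgSpace.yon_obj U⟩, AlgSt.toOverCat U, isEquivOver_toOverCat U, by
    change P (AlgSt.spMapOfOver (AlgSt.toOverCat U))
    rw [spMapOfOver_toOverCat]
    exact h⟩

theorem repByAlgSpWith_overMap {P : MorphismProperty Scheme.{u}} (hP : Good S P) (hP' : K597.EtLoc P)
    [P.IsStableUnderBaseChange] {U V : Over S} (s : V ⟶ U) (h : P s.left) :
    AlgSt.RepByAlgSpWith (AlgSp.LocP P) (AlgSt.overMap s) := by
  refine repByAlgSpWith_of_repOver hP.bc ⟨⟨_, AlgSp.IsAlgSpace.yon_obj V⟩, AlgSt.toOverCat V, isEquivOver_toOverCat V, ?_⟩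
  have : AlgSt.spMapOfOver (BasedFunctor.comp (AlgSt.toOverCat V) (AlgSt.overMap s)) = (AlgSp.yon S).map s := by
    apply ObjectProperty.hom_ext
    apply NatTrans.ext
    funext T
    ext x
    apply ULift.ext
    change eqToHom _ ≫ (x.down ≫ s) = x.down ≫ s
    simp
  rw [this]
  exact locP_yon hP' s h

theorem bc_surj : BC (S := S) AlgSp.IsSurjectiveMor := by
  intro X₁ Y₁ X₂ Y₂ _ _ _ _ a b a' b' sq h y
  obtain ⟨x, hx⟩ := h (AlgSp.Points.map b y)
  obtain ⟨z, -, hz⟩ := K629.Basic.exists_point sq x y hx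
  exact ⟨z, hz⟩

theorem isAlgStack_overCat (U : Over S) : AlgSt.IsAlgStack Scheme.fppfPrecoverage (FibCat.overCat U) :=
  K744.AlgOver.isAlgStack_overCat U

/-- Families of morphisms isomorphic to an fppf family. -/
theorem fam_of_iso {T T' : Over S} {ι : Type u} {V V' : ι → Over S} {g : ∀ i, V i ⟶ T} (hg : Fam g) (e : T ≅ T')
    (a : ∀ i, V' i ≅ V i) : Fam (fun i => (a i).hom ≫ g i ≫ e.hom) where
  flat i := by
    have := hg.flat i
    have h1 : IsIso (a i).hom.left := inferInstanceAs (IsIso ((Over.forget S).map (a i).hom))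
    have h2 : IsIso e.hom.left := inferInstanceAs (IsIso ((Over.forget S).map e.hom))
    change Flat ((a i).hom.left ≫ (g i).left ≫ e.hom.left)
    infer_instance
  lfp i := by
    have := hg.lfp i
    have h1 : IsIso (a i).hom.left := inferInstanceAs (IsIso ((Over.forget S).map (a i).hom))
    have h2 : IsIso e.hom.left := inferInstanceAs (IsIso ((Over.forget S).map e.hom))
    change LocallyOfFinitePresentation ((a i).hom.left ≫ (g i).left ≫ e.hom.left)
    infer_instance
  surj t := by
    obtain ⟨i, v, hv⟩ := hg.surj (e.inv.left t)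
    refine ⟨i, (a i).inv.left v, ?_⟩
    change ((a i).hom.left ≫ (g i).left ≫ e.hom.left) ((a i).inv.left v) = t
    have h1 : (a i).inv.left ≫ (a i).hom.left = 𝟙 _ := by
      rw [← Over.comp_left, (a i).inv_hom_id, Over.id_left]
    have h2 : e.inv.left ≫ e.hom.left = 𝟙 _ := by
      rw [← Over.comp_left, e.inv_hom_id, Over.id_left]
    have h3 : (a i).hom.left ((a i).inv.left v) = v := by
      rw [← Scheme.Hom.comp_apply, h1]; rfl
    rw [Scheme.Hom.comp_apply, Scheme.Hom.comp_apply, h3, hv, ← Scheme.Hom.comp_apply, h2]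
    rfl

/-- Composition of restrictions of slices. -/
def overMapComp {U V W : Over S} (l : W ⟶ V) (s : V ⟶ U) :
    BasedFunctor.comp (AlgSt.overMap l) (AlgSt.overMap s) ≅ AlgSt.overMap (l ≫ s) :=
  mkIso (fun a => Over.isoMk (Iso.refl a.left) (by
      change 𝟙 _ ≫ a.hom ≫ l ≫ s = (a.hom ≫ l) ≫ s
      simp))
    (fun {a b} φ => Over.OverMorphism.ext (by
      change φ.left ≫ 𝟙 _ = 𝟙 _ ≫ φ.left
      simp))
    (fun a => vert_of_map_eq rfl rfl)

end K894.Core
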