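import Groth.Agent.AlgSt.K743.DiagBC
import Groth.Agent.AlgSt.K735.Rep

/-!
# A section of `π` is a base change of the diagonal of `π` (helper894)
-/

set_option autoImplicit false
set_option backward.isDefEq.respectTransparency false
set_option backward.isDefEq.respectTransparency.types false

universe v₃ u₃ v₂ u₂ v u

open CategoryTheory CategoryTheory.Limits AlgebraicGeometry Opposite K735.Fib K735.Fp K735.Rep

namespace K894.Sect

section

variable {C : Type u} [Category.{v} C] {𝒳 : BasedCategory.{v₂, u₂} C} {𝒴 : BasedCategory.{v₃, u₃} C}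

/-- The projection `𝒴 ×_𝒴 𝒳 ⟶ 𝒳` is an equivalence. -/
theorem isEquivOver_fpSnd_id (π : 𝒳 ⥤ᵇ 𝒴) : FibCat.IsEquivOver (FibCat.fpSnd (BasedFunctor.id 𝒴) π) := by
  refine isEquivOver_of ?_ ?_ ?_
  · intro x y φ ψ hh
    refine fp_hom_ext ?_ hh
    have h1 := fp_w φ
    have h2 := fp_w ψ
    rw [show φ.hom.snd = ψ.hom.snd from hh] at h1
    exact (cancel_mono y.obj.iso.hom).1 (h1.trans h2.symm)
  · intro x y φ
    refine ⟨homFp (x.obj.iso.hom ≫ π.map φ ≫ y.obj.iso.inv) φ ?_, rfl⟩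
    change (x.obj.iso.hom ≫ π.map φ ≫ y.obj.iso.inv) ≫ y.obj.iso.hom = x.obj.iso.hom ≫ π.map φ
    rw [Category.assoc, Category.assoc, Iso.inv_hom_id, Category.comp_id]
  · intro z
    exact ⟨mkFp (BasedFunctor.id 𝒴) π (π.obj z) z (Iso.refl _) (vert_id _), Iso.refl _, vert_id _⟩

end

variable {S : Scheme.{u}} {𝒳 : BasedCategory.{v₂, u₂} (Over S)} {𝒴 : BasedCategory.{v₃, u₃} (Over S)}

/-- A section inherits every property of the diagonal. -/
theorem repByAlgSpWith_section {P : MorphismProperty (AlgSp.Sp S)} (π : 𝒳 ⥤ᵇ 𝒴) (x : 𝒴 ⥤ᵇ 𝒳)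
    (e : BasedFunctor.comp x π ≅ BasedFunctor.id 𝒴) (h : AlgSt.RepByAlgSpWith P (FibCat.diag π)) :
    AlgSt.RepByAlgSpWith P x := by
  let e' : BasedFunctor.comp (BasedFunctor.id 𝒴) (BasedFunctor.id 𝒴) ≅ BasedFunctor.comp x π := e.symm
  have h1 := (K743.DiagBC.graph_isCart (BasedFunctor.id 𝒴) π x e').repByAlgSpWith h
  exact (repByAlgSpWith_iff_of_sq P x (FibCat.fpLift (BasedFunctor.id 𝒴) x e') (BasedFunctor.id 𝒴)
    (FibCat.fpSnd (BasedFunctor.id 𝒴) π) isEquivOver_id (isEquivOver_fpSnd_id π) (Iso.refl _)).2 h1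

end K894.Sect
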