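import Groth.Agent.Gerb.K894.CoreA
import Groth.Agent.Gerb.K894.Sect
import Groth.Agent.AlgSt.K743.FlatCover
import Groth.Agent.AlgSt.K743.FpChart
import Groth.Agent.AlgSt.K743.Locus
import Groth.Agent.AlgSt.K739.Sect
import Groth.Agent.AlgSt.K742.RepComp
import Groth.Agent.S12780

/-!
# A morphism which is locally essentially surjective with flat lfp surjective diagonal is flat and lfp (helper894)
-/

set_option autoImplicit false
set_option backward.isDefEq.respectTransparency false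
set_option backward.isDefEq.respectTransparency.types false

universe v₄ u₄ v₃ u₃ v₂ u₂ v u

open CategoryTheory CategoryTheory.Limits AlgebraicGeometry Opposite K735.Fib K735.Fp K735.Rep K735.Pts

namespace K894.GerbeQ

open K894.GoodP K894.BCRep K594.Cover K894.Loc K894.LocSurj K894.Formal

variable {S : Scheme.{u}}

section

variable {𝒵 : BasedCategory.{v₂, u₂} (Over S)} {𝒳 : BasedCategory.{v₃, u₃} (Over S)}

/-- The functor form of local essential surjectivity. -/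
theorem exists_lift_of_locSurjObj [h𝒵 : FibCat.IsFibGrpd 𝒵.p] [h𝒳 : FibCat.IsFibGrpd 𝒳.p] {G : 𝒵 ⥤ᵇ 𝒳}
    (hG : Gerb.LocSurjObj (QuotSh.J Scheme.fppfPrecoverage S) G) {U : Over S} (y : FibCat.overCat U ⥤ᵇ 𝒳) :
    ∃ R ∈ (QuotSh.J Scheme.fppfPrecoverage S) U, ∀ ⦃T : Over S⦄ (s : T ⟶ U), R.arrows s →
      ∃ z : FibCat.overCat T ⥤ᵇ 𝒵, Nonempty (BasedFunctor.comp z G ≅ BasedFunctor.comp (AlgSt.overMap s) y) := by
  refine ⟨_, surjSieve_mem_of hG (y.obj (idObj U)) (y.w_obj (idObj U)), ?_⟩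
  rintro T s ⟨z₀, k, hk⟩
  have h1 : 𝒳.p.obj (G.obj z₀) = T := IsHomLift.domain_eq 𝒳.p s k
  have hz₀ : 𝒵.p.obj z₀ = T := (G.w_obj z₀).symm.trans h1
  refine ⟨yonF h𝒵 z₀ hz₀, ?_⟩
  obtain ⟨e₁⟩ := K894.Span.exists_iso_yonF h𝒳 y (idObj U) (G.obj z₀) h1 k s (by
    have := IsHomLift.fac' 𝒳.p s k
    rw [this]
    change _ = _ ≫ (_ ≫ _ ≫ _) ≫ _ ≫ 𝟙 U
    simp)
  refine ⟨yonIso h𝒳 _ _ (G.map (yonFIso h𝒵 z₀ hz₀).hom ≫ (yonFIso h𝒳 (G.obj z₀) h1).inv) ?_ ≪≫ e₁⟩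
  exact ((vert_yonFIso h𝒵 z₀ hz₀).map G).comp (Vert.iso_inv (vert_yonFIso h𝒳 (G.obj z₀) h1))

theorem exists_fam_lift [h𝒵 : FibCat.IsFibGrpd 𝒵.p] [h𝒳 : FibCat.IsFibGrpd 𝒳.p] {G : 𝒵 ⥤ᵇ 𝒳}
    (hG : Gerb.LocSurjObj (QuotSh.J Scheme.fppfPrecoverage S) G) {U : Over S} (y : FibCat.overCat U ⥤ᵇ 𝒳) :
    ∃ (ι : Type u) (V : ι → Over S) (g : ∀ i, V i ⟶ U), Fam g ∧ ∀ i, ∃ z : FibCat.overCat (V i) ⥤ᵇ 𝒵,
      Nonempty (BasedFunctor.comp z G ≅ BasedFunctor.comp (AlgSt.overMap (g i)) y) := by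
  obtain ⟨R, hR, h⟩ := exists_lift_of_locSurjObj hG y
  obtain ⟨ι, V, g, hg, hgR⟩ := exists_fam_of_mem hR
  exact ⟨ι, V, g, hg, fun i => h (g i) (hgR i)⟩

end

variable {𝒳 𝒴 : AlgSt.Cat S}

/-- The graph-like section `V' ⟶ V ×_𝒴 𝒳` has the properties of the diagonal of `f` and of `V' ⟶ V`. -/
theorem repByAlgSpWith_lift {P : MorphismProperty Scheme.{u}} (hP : Good S P) (hP' : K597.EtLoc P)
    [P.IsStableUnderBaseChange] (h𝒳 : FibCat.IsFibGrpd 𝒳.p) (h𝒴 : FibCat.IsFibGrpd 𝒴.p) (f : 𝒳 ⥤ᵇ 𝒴)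
    (hΔ : AlgSt.RepByAlgSpWith (AlgSp.LocP P) (FibCat.diag f))
    {V V' : Over S} (v : FibCat.overCat V ⥤ᵇ 𝒴) (g : V' ⟶ V) (hg : P g.left) (z : FibCat.overCat V' ⥤ᵇ 𝒳)
    (β : BasedFunctor.comp (AlgSt.overMap g) v ≅ BasedFunctor.comp z f) :
    AlgSt.RepByAlgSpWith (AlgSp.LocP P) (FibCat.fpLift (AlgSt.overMap g) z β) := by
  let s := FibCat.fpLift (AlgSt.overMap g) z β
  let π := FibCat.fpFst v f
  have h1 : FibCat.IsFibGrpd (FibCat.fp v f).p := isFibGrpd_fp (isFibGrpd_overCat V) h𝒳 h𝒴 v f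
  have h2 : FibCat.IsFibGrpd (FibCat.fp (AlgSt.overMap g) π).p :=
    isFibGrpd_fp (isFibGrpd_overCat V') h1 (isFibGrpd_overCat V) (AlgSt.overMap g) π
  have hπ : AlgSt.RepByAlgSpWith (AlgSp.LocP P) (FibCat.diag π) :=
    K739.Sect.repByAlgSpWith_diag_fpFst v f h𝒳 h𝒴 (isFibGrpd_overCat V) h1 hΔ
  have hρ : AlgSt.RepByAlgSpWith (AlgSp.LocP P) (FibCat.diag (FibCat.fpFst (AlgSt.overMap g) π)) :=
    K739.Sect.repByAlgSpWith_diag_fpFst (AlgSt.overMap g) π h1 (isFibGrpd_overCat V) (isFibGrpd_overCat V') h2 hπ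
  let σ : FibCat.overCat V' ⥤ᵇ FibCat.fp (AlgSt.overMap g) π :=
    FibCat.fpLift (BasedFunctor.id _) s (Iso.refl (AlgSt.overMap g) :
      BasedFunctor.comp (BasedFunctor.id _) (AlgSt.overMap g) ≅ BasedFunctor.comp s π)
  have hσ : AlgSt.RepByAlgSpWith (AlgSp.LocP P) σ :=
    K894.Sect.repByAlgSpWith_section (FibCat.fpFst (AlgSt.overMap g) π) σ (Iso.refl _) hρ
  have hmap : AlgSt.RepByAlgSpWith (AlgSp.LocP P) (AlgSt.overMap g) := K894.Core.repByAlgSpWith_overMap hP hP' g hg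
  have hsnd : AlgSt.RepByAlgSpWith (AlgSp.LocP P) (FibCat.fpSnd (AlgSt.overMap g) π) :=
    K742.RepComp.repByAlgSpWith_fpSnd _ _ hmap
  exact Groth.Agent.S12780.result (isFibGrpd_overCat V') h2 h1 (AlgSp.LocP P) hP.bc hP.comp hP.loc σ
    (FibCat.fpSnd (AlgSt.overMap g) π) hσ hsnd

/-- A locally essentially surjective morphism whose diagonal is flat, lfp and surjective has every property `P`
which is implied by flat + lfp and is fppf local on the source. -/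
theorem locQ_of {P : MorphismProperty Scheme.{u}} (hP' : K597.EtLoc P)
    [P.IsStableUnderBaseChange] (hfp : ∀ ⦃A B : Scheme.{u}⦄ (g : A ⟶ B), Flat g → LocallyOfFinitePresentation g → P g)
    (hsrc : AlgSp.IsLocalOnSource (AlgSp.IsFppfCover (S := S)) (AlgSp.LocP P))
    (h𝒳 : AlgSt.IsAlgStack Scheme.fppfPrecoverage 𝒳) (h𝒴 : AlgSt.IsAlgStack Scheme.fppfPrecoverage 𝒴)
    (f : 𝒳 ⥤ᵇ 𝒴) (hf : Gerb.LocSurjObj (QuotSh.J Scheme.fppfPrecoverage S) f)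
    (hΔ₁ : AlgSt.RepByAlgSpWith (AlgSp.LocP @Flat) (FibCat.diag f))
    (hΔ₂ : AlgSt.RepByAlgSpWith (AlgSp.LocP @LocallyOfFinitePresentation) (FibCat.diag f))
    (hΔ₃ : Function.Surjective (AlgSt.Points.map (FibCat.diag f))) : AlgSt.LocQ (AlgSp.LocP P) f := by
  have i𝒳 : FibCat.IsFibGrpd 𝒳.p := h𝒳.isStack.1
  have i𝒴 : FibCat.IsFibGrpd 𝒴.p := h𝒴.isStack.1
  obtain ⟨U, u, hu₁, hu₂⟩ := h𝒳.atlas
  obtain ⟨V, v, hv₁, hv₂⟩ := h𝒴.atlas
  have iV : FibCat.IsFibGrpd (FibCat.overCat V).p := isFibGrpd_overCat V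
  have ifp : FibCat.IsFibGrpd (FibCat.fp v f).p := isFibGrpd_fp iV i𝒳 i𝒴 v f
  obtain ⟨W, s, r, ω, hω, ⟨i₁⟩, ⟨i₂⟩, hs, -, hsurj⟩ := K743.FpChart.exists_chart_fp K597.etLoc_smooth
    (fun _ _ f _ => inferInstance) i𝒳 i𝒴 f u hu₁ v hv₁
  let x : FibCat.overCat W ⥤ᵇ 𝒳 := BasedFunctor.comp (AlgSt.overMap s) u
  have hx : AlgSt.RepByAlgSpWith (AlgSp.LocP @Smooth) x := K743.Comp.locP_overMap_comp K597.etLoc_smooth s hs u hu₁
  have hx' : AlgSt.RepByAlgSpWith AlgSp.IsSurjectiveMor x := by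
    refine (K735.Top.repByAlgSpWith_surjective_iff i𝒳 (isFibGrpd_overCat W) (repByAlgSp1_of_with hx)).1 fun q => ?_
    obtain ⟨t, ht⟩ := K743.Pt.surjective_of_rep i𝒴 v hv₂ (AlgSt.Points.map f q)
    obtain ⟨z, -, hz⟩ := exists_fp i𝒳 iV i𝒴 v f t q ht
    obtain ⟨w, rfl⟩ := hsurj z (by rw [hz]; exact K743.Pt.surjective_of_rep i𝒳 u hu₂ q)
    exact ⟨w, by rw [← hz, ← map_comp, map_congr i₂]⟩
  let α : BasedFunctor.comp x f ≅ BasedFunctor.comp (AlgSt.overMap r) v :=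
    whiskerRightIso i₂.symm f ≪≫
      (whiskerLeftIso ω (FibCat.fpIso v f).symm :
        BasedFunctor.comp ω (BasedFunctor.comp (FibCat.fpSnd v f) f) ≅
          BasedFunctor.comp ω (BasedFunctor.comp (FibCat.fpFst v f) v)) ≪≫
      whiskerRightIso i₁ v
  refine ⟨W, V, x, v, r, α, hx, hx', hv₁, ?_⟩
  obtain ⟨ι, V', g, hg, hl⟩ := exists_fam_lift hf v
  choose z β using hl
  have key : ∀ i, ∃ (W' : Over S) (s' : W' ⟶ W) (r' : W' ⟶ V' i), s' ≫ r = r' ≫ g i ∧ Flat s'.left ∧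
      LocallyOfFinitePresentation s'.left ∧ Smooth r'.left ∧
      ∀ w : ↥W.left, r.left w ∈ Set.range (g i).left → w ∈ Set.range s'.left := by
    intro i
    let σ := FibCat.fpLift (AlgSt.overMap (g i)) (z i) (β i).some.symm
    have h1 : AlgSt.RepByAlgSpWith (AlgSp.LocP @Flat) σ :=
      repByAlgSpWith_lift (good_flat S) K597.etLoc_flat i𝒳 i𝒴 f hΔ₁ v (g i) (hg.flat i) (z i) _
    have h2 : AlgSt.RepByAlgSpWith (AlgSp.LocP @LocallyOfFinitePresentation) σ :=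
      repByAlgSpWith_lift (good_lfp S) K597.etLoc_lfp i𝒳 i𝒴 f hΔ₂ v (g i) (hg.lfp i) (z i) _
    obtain ⟨W', s', r', E, ⟨j₁⟩, ⟨j₂⟩, hs', hr', hE⟩ := K743.Comp.exists_chart₂ ω σ
      (K743.FlatCover.repByAlgSpWith_locP_inf h1 h2) hω
    refine ⟨W', s', r', ?_, hs'.1, hs'.2, hr', fun w hw => ?_⟩
    · apply K743.Locus.eq_of_overMap_iso
      exact (K894.Core.overMapComp s' r).symm ≪≫ whiskerRightIso j₁.symm (AlgSt.overMap r) ≪≫
        (whiskerLeftIso (BasedFunctor.comp E (FibCat.fpFst ω σ)) i₁.symm :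
          BasedFunctor.comp (BasedFunctor.comp E (FibCat.fpFst ω σ)) (AlgSt.overMap r) ≅
          BasedFunctor.comp E (BasedFunctor.comp (BasedFunctor.comp (FibCat.fpFst ω σ) ω) (FibCat.fpFst v f))) ≪≫
        (whiskerLeftIso E (whiskerRightIso (FibCat.fpIso ω σ) (FibCat.fpFst v f)) :
          BasedFunctor.comp E (BasedFunctor.comp (BasedFunctor.comp (FibCat.fpFst ω σ) ω) (FibCat.fpFst v f)) ≅
          BasedFunctor.comp (BasedFunctor.comp E (FibCat.fpSnd ω σ)) (AlgSt.overMap (g i))) ≪≫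
        whiskerRightIso j₂ (AlgSt.overMap (g i)) ≪≫ K894.Core.overMapComp r' (g i)
    · obtain ⟨t, ht⟩ := hw
      have e1 : AlgSt.Points.map ω (K743.Pt.pt w) = AlgSt.Points.map σ (K743.Pt.pt t) := by
        refine injective_fpFst_of_surjective_diag i𝒳 iV i𝒴 v f hΔ₃ ?_
        rw [← map_comp ω, map_congr i₁, K743.Pt.map_overMap_pt, ← map_comp σ]
        change _ = AlgSt.Points.map (AlgSt.overMap (g i)) (K743.Pt.pt t)
        rw [K743.Pt.map_overMap_pt, ht]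
      obtain ⟨q, hq, -⟩ := exists_fp (isFibGrpd_overCat (V' i)) (isFibGrpd_overCat W) ifp ω σ _ _ e1
      obtain ⟨q, rfl⟩ := hE q
      obtain ⟨w', rfl⟩ : ∃ w', K743.Pt.pt w' = q := ⟨K743.Pt.toPt q, K743.Pt.pt_toPt q⟩
      rw [← map_comp, map_congr j₁, K743.Pt.map_overMap_pt] at hq
      exact ⟨w', K743.Pt.pt_injective hq⟩
  choose W' s' r' hsr hs'₁ hs'₂ hr' hpt using key
  have hfam : Fam s' := ⟨hs'₁, hs'₂, fun w => by
    obtain ⟨i, t, ht⟩ := hg.surj (r.left w)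
    obtain ⟨w', hw'⟩ := hpt i w ⟨t, ht⟩
    exact ⟨i, w', hw'⟩⟩
  refine (hsrc (fun i => (AlgSp.yon S).obj (W' i)) (fun i => (AlgSp.yon S).map (s' i)) (AlgSp.IsAlgSpace.yon_obj W)
    (fun i => AlgSp.IsAlgSpace.yon_obj (W' i)) (isFppfCover_of_fam hfam) _ (AlgSp.IsAlgSpace.yon_obj V)).2 fun i => ?_
  rw [← Functor.map_comp, hsr]
  refine locP_yon hP' _ (hfp _ ?_ ?_)
  · have := hr' i
    have := hg.flat i
    rw [Over.comp_left]
    infer_instance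
  · have := hr' i
    have := hg.lfp i
    rw [Over.comp_left]
    infer_instance

end K894.GerbeQ
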