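import Groth.Agent.Gerb.K894.Core
import Groth.Agent.Gerb.K894.GerbeQ

/-!
# The diagonal of a gerbe is flat, locally of finite presentation and surjective (helper894)
-/

set_option autoImplicit false
set_option backward.isDefEq.respectTransparency false
set_option backward.isDefEq.respectTransparency.types false

universe v₄ u₄ v₃ u₃ v₂ u₂ v u

open CategoryTheory CategoryTheory.Limits AlgebraicGeometry Opposite K735.Fib K735.Fp K735.Rep K735.Pts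

namespace K894.Diag

open K894.GoodP K894.BCRep K594.Cover K894.Loc K894.LocSurj K894.Span K894.Core K894.Formal K894.GerbeQ

variable {S : Scheme.{u}}

variable {𝒳 𝒴 : AlgSt.Cat S}

/-- The diagonal of a gerbe of algebraic stacks has the fppf-local properties satisfied by its inertia. -/
theorem repByAlgSpWith_diag {P : MorphismProperty Scheme.{u}} (hP : Good S P) (hP' : K597.EtLoc P)
    [P.IsStableUnderBaseChange] (hfp : ∀ ⦃A B : Scheme.{u}⦄ (g : A ⟶ B), Flat g → LocallyOfFinitePresentation g → P g)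
    (h𝒳 : AlgSt.IsAlgStack Scheme.fppfPrecoverage 𝒳) (h𝒴 : AlgSt.IsAlgStack Scheme.fppfPrecoverage 𝒴)
    (f : 𝒳 ⥤ᵇ 𝒴) (hf : Gerb.IsGerbeOver (QuotSh.J Scheme.fppfPrecoverage S) f) :
    AlgSt.RepByAlgSpWith (AlgSp.LocP P) (FibCat.diag f) := by
  intro U y
  have i1 : FibCat.IsFibGrpd 𝒳.p := h𝒳.isStack.1
  have i2 : FibCat.IsFibGrpd 𝒴.p := h𝒴.isStack.1
  have hI := repByAlgSpWith_inertia hP hP' hfp h𝒳 h𝒴 f hf
  have hΔ : AlgSt.RepByAlgSp1 (FibCat.diag f) := repByAlgSp1_of_with (Groth.Agent.S12939.result S 𝒳 𝒴 h𝒳 h𝒴 f)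
  obtain ⟨R, hR, h⟩ := exists_lift_of_locSurjObj (locSurjHom_iff_diag (F := f) |>.1 hf.2) y
  refine repOver_fp_of_sieve hP.loc hP.bc (FibCat.diag f) y (hΔ U y) hR fun T s hs => ?_
  obtain ⟨z, ⟨e⟩⟩ := h s hs
  refine repOver_congr e _ ?_
  have h1 : RepOver (AlgSp.LocP P) (FibCat.fpFst z (FibCat.inertiaToBase f)) := hI T z
  exact h1.of_equiv (K743.BC.cmp (FibCat.inertiaToBase f) (FibCat.diag f) (FibCat.inertiaToBase f) (FibCat.diag f)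
    (K894.Inertia.tautE f) z) ((K894.Inertia.inertia_isCart f).cmp_isEquivOver z) (Iso.refl _)

theorem flat_diag (h𝒳 : AlgSt.IsAlgStack Scheme.fppfPrecoverage 𝒳) (h𝒴 : AlgSt.IsAlgStack Scheme.fppfPrecoverage 𝒴)
    (f : 𝒳 ⥤ᵇ 𝒴) (hf : Gerb.IsGerbeOver (QuotSh.J Scheme.fppfPrecoverage S) f) :
    AlgSt.RepByAlgSpWith (AlgSp.LocP @Flat) (FibCat.diag f) :=
  repByAlgSpWith_diag (good_flat S) K597.etLoc_flat (fun _ _ _ h _ => h) h𝒳 h𝒴 f hf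

theorem lfp_diag (h𝒳 : AlgSt.IsAlgStack Scheme.fppfPrecoverage 𝒳) (h𝒴 : AlgSt.IsAlgStack Scheme.fppfPrecoverage 𝒴)
    (f : 𝒳 ⥤ᵇ 𝒴) (hf : Gerb.IsGerbeOver (QuotSh.J Scheme.fppfPrecoverage S) f) :
    AlgSt.RepByAlgSpWith (AlgSp.LocP @LocallyOfFinitePresentation) (FibCat.diag f) :=
  repByAlgSpWith_diag (good_lfp S) K597.etLoc_lfp (fun _ _ _ _ h => h) h𝒳 h𝒴 f hf

theorem surjective_diag_pts (h𝒳 : AlgSt.IsAlgStack Scheme.fppfPrecoverage 𝒳)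
    (h𝒴 : AlgSt.IsAlgStack Scheme.fppfPrecoverage 𝒴)
    (f : 𝒳 ⥤ᵇ 𝒴) (hf : Gerb.IsGerbeOver (QuotSh.J Scheme.fppfPrecoverage S) f) :
    AlgSt.IsSurjective (FibCat.diag f) :=
  have := h𝒳.isStack.1
  have := h𝒴.isStack.1
  K894.Surj.isSurjective_of_locSurjObj _ (locSurjHom_iff_diag (F := f) |>.1 hf.2)

theorem surjective_diag (h𝒳 : AlgSt.IsAlgStack Scheme.fppfPrecoverage 𝒳)
    (h𝒴 : AlgSt.IsAlgStack Scheme.fppfPrecoverage 𝒴)
    (f : 𝒳 ⥤ᵇ 𝒴) (hf : Gerb.IsGerbeOver (QuotSh.J Scheme.fppfPrecoverage S) f) :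
    AlgSt.RepByAlgSpWith AlgSp.IsSurjectiveMor (FibCat.diag f) :=
  have h1 := h𝒳.isStack.1
  have h2 := h𝒴.isStack.1
  (K735.Top.repByAlgSpWith_surjective_iff (K735.Fp.isFibGrpd_fp h1 h1 h2 f f) h1
    (repByAlgSp1_of_with (flat_diag h𝒳 h𝒴 f hf))).1 (surjective_diag_pts h𝒳 h𝒴 f hf)

end K894.Diag
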