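import Groth.Agent.Gerb.K894.LocSurj
import Groth.Agent.AlgSt.K743.FlatCover

/-!
# Flat, locally finitely presented, surjective morphisms are locally essentially surjective (helper894)
-/

set_option autoImplicit false
set_option backward.isDefEq.respectTransparency false
set_option backward.isDefEq.respectTransparency.types false

universe v₄ u₄ v₃ u₃ v₂ u₂ v u

open CategoryTheory CategoryTheory.Limits AlgebraicGeometry Opposite K735.Fib K735.Fp K735.Rep K735.Pts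

namespace K894.FlatSurj

open K594.Cover

variable {S : Scheme.{u}} {𝒳 : BasedCategory.{v₃, u₃} (Over S)} {𝒴 : BasedCategory.{v₄, u₄} (Over S)}

open K894.Formal in
/-- Objects lift fppf-locally along a family of local lifts. -/
theorem locSurjObj_of_lifts [h𝒳 : FibCat.IsFibGrpd 𝒳.p] [h𝒴 : FibCat.IsFibGrpd 𝒴.p] (G : 𝒳 ⥤ᵇ 𝒴)
    (h : ∀ (U : Over S) (y : FibCat.overCat U ⥤ᵇ 𝒴), ∃ (ι : Type u) (V : ι → Over S) (g : ∀ i, V i ⟶ U), Fam g ∧
      ∀ i, ∃ x' : FibCat.overCat (V i) ⥤ᵇ 𝒳,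
        Nonempty (BasedFunctor.comp x' G ≅ BasedFunctor.comp (AlgSt.overMap (g i)) y)) :
    Gerb.LocSurjObj (QuotSh.J Scheme.fppfPrecoverage S) G := by
  rw [locSurjObj_iff]
  intro y U hy
  obtain ⟨ι, V, g, hg, hl⟩ := h U (yonF h𝒴 y hy)
  refine GrothendieckTopology.superset_covering _ ?_ hg.mem
  rw [Sieve.ofArrows, Sieve.generate_le_iff]
  rintro _ _ ⟨i⟩
  obtain ⟨x', ⟨e⟩⟩ := hl i
  have h1 : 𝒴.p.IsHomLift (𝟙 (V i)) (e.hom.toNatTrans.app (idObj (V i))) := e.hom.isHomLift rfl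
  let k : (AlgSt.overMap (g i)).obj (idObj (V i)) ⟶ idObj U := toId _
  have hk : (FibCat.overCat U).p.IsHomLift (g i) k := by
    refine IsHomLift.of_fac' _ _ _ rfl rfl ?_
    change 𝟙 _ ≫ g i = 𝟙 _ ≫ g i ≫ 𝟙 _
    simp
  have h3 : 𝒴.p.IsHomLift (g i) ((yonF h𝒴 y hy).map k) := BasedFunctor.preserves_isHomLift _ _ _
  have h4 : 𝒴.p.IsHomLift (𝟙 U) (yonFIso h𝒴 y hy).hom := (vert_yonFIso h𝒴 y hy).isHomLift' hy
  have h5 : 𝒴.p.IsHomLift (g i ≫ 𝟙 U) ((yonF h𝒴 y hy).map k ≫ (yonFIso h𝒴 y hy).hom) := inferInstance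
  rw [Category.comp_id] at h5
  have h6 := @IsHomLift.comp _ _ _ _ 𝒴.p _ _ _ _ _ _ (𝟙 (V i)) (g i) (e.hom.toNatTrans.app (idObj (V i)))
    ((yonF h𝒴 y hy).map k ≫ (yonFIso h𝒴 y hy).hom) h1 h5
  rw [Category.id_comp] at h6
  exact ⟨x'.obj (idObj (V i)), _, h6⟩

theorem fam_of_mem {U : Over S} {ι : Type u} {V : ι → Over S} {g : ∀ i, V i ⟶ U}
    (h : (Presieve.ofArrows (fun i ↦ (V i).left) fun i ↦ (g i).left) ∈ Scheme.fppfPrecoverage U.left) : Fam g := by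
  change _ ∈ Scheme.precoverage _ U.left at h
  rw [Scheme.ofArrows_mem_precoverage_iff] at h
  exact ⟨fun i => (h.2 i).1, fun i => (h.2 i).2, fun t => h.1 t⟩

/-- A flat, locally finitely presented and surjective morphism is locally essentially surjective. -/
theorem locSurjObj_of_locQ [h𝒳 : FibCat.IsFibGrpd 𝒳.p] [h𝒴 : FibCat.IsFibGrpd 𝒴.p] (G : 𝒳 ⥤ᵇ 𝒴)
    (h₁ : AlgSt.LocQ (AlgSp.LocP @Flat) G) (h₂ : AlgSt.LocQ (AlgSp.LocP @LocallyOfFinitePresentation) G)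
    (h₃ : AlgSt.IsSurjective G) : Gerb.LocSurjObj (QuotSh.J Scheme.fppfPrecoverage S) G := by
  refine locSurjObj_of_lifts G fun U y => ?_
  obtain ⟨V, g, hm, hl⟩ := K743.FlatCover.exists_fppf_lift h𝒴 (J := PUnit.{u+1}) (fun _ => 𝒳) (fun _ => h𝒳) (fun _ => G)
    (fun _ => h₁) (fun _ => h₂) (fun p => ⟨PUnit.unit, h₃ p⟩) U y
  exact ⟨PUnit, V, g, fam_of_mem hm, hl⟩

end K894.FlatSurj
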