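import Groth.Agent.Gerb.K894.Diag
import Groth.Agent.Gerb.K894.Sect
import Groth.Agent.S12763
import Groth.Agent.S12772

/-!
# Algebraic stacks obtained from algebraic stacks (helper894)
-/

set_option autoImplicit false
set_option backward.isDefEq.respectTransparency false
set_option backward.isDefEq.respectTransparency.types false

universe u

open CategoryTheory CategoryTheory.Limits AlgebraicGeometry Opposite K735.Fib K735.Fp K735.Rep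

namespace K894.Ifc

open K894.Diag K894.Core

variable {S : Scheme.{u}} {𝒳 𝒴 𝒵 : AlgSt.Cat S}

theorem isAlgStack_fp (h𝒳 : AlgSt.IsAlgStack Scheme.fppfPrecoverage 𝒳)
    (h𝒴 : AlgSt.IsAlgStack Scheme.fppfPrecoverage 𝒴) (h𝒵 : AlgSt.IsAlgStack Scheme.fppfPrecoverage 𝒵)
    (f : 𝒳 ⥤ᵇ 𝒵) (g : 𝒴 ⥤ᵇ 𝒵) : AlgSt.IsAlgStack Scheme.fppfPrecoverage (FibCat.fp f g) :=
  Groth.Agent.S12763.result h𝒵.isStack h𝒵.diag h𝒳 h𝒴 f g

theorem isAlgStack_ofSp (X : AlgSp.Space S) : AlgSt.IsAlgStack Scheme.fppfPrecoverage (AlgSt.ofSp X.obj) :=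
  (Groth.Agent.S12772.result (isFibGrpd_ofSp X.obj) ⟨X, BasedFunctor.id _, isEquivOver_id⟩).1

theorem repByAlgSp1_diag (h𝒳 : AlgSt.IsAlgStack Scheme.fppfPrecoverage 𝒳)
    (h𝒴 : AlgSt.IsAlgStack Scheme.fppfPrecoverage 𝒴) (f : 𝒳 ⥤ᵇ 𝒴) : AlgSt.RepByAlgSp1 (FibCat.diag f) :=
  repByAlgSp1_of_with (Groth.Agent.S12939.result S 𝒳 𝒴 h𝒳 h𝒴 f)

end K894.Ifc
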