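import Groth.Agent.Gerb.K894.Ifc
import Groth.Agent.AlgSt.K735.Setoid
import Groth.Agent.S12768

/-!
# Algebraic stacks obtained from algebraic stacks (helper894)
-/

set_option autoImplicit false
set_option backward.isDefEq.respectTransparency false
set_option backward.isDefEq.respectTransparency.types false

universe u

open CategoryTheory CategoryTheory.Limits AlgebraicGeometry Opposite K735.Fib K735.Fp K735.Rep

namespace K894.Ifc

open K894.Diag K894.Core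

variable {S : Scheme.{u}} {𝒳 𝒴 𝒵 : AlgSt.Cat S}

theorem isAlgStack_of_rep (h𝒳 : FibCat.IsFibGrpd 𝒳.p) (h𝒴 : AlgSt.IsAlgStack Scheme.fppfPrecoverage 𝒴)
    (j : 𝒳 ⥤ᵇ 𝒴) (hj : AlgSt.RepByAlgSp1 j) : AlgSt.IsAlgStack Scheme.fppfPrecoverage 𝒳 :=
  Groth.Agent.S12768.result h𝒳 h𝒴 j hj

theorem isAlgStack_inertia (h𝒳 : AlgSt.IsAlgStack Scheme.fppfPrecoverage 𝒳)
    (h𝒴 : AlgSt.IsAlgStack Scheme.fppfPrecoverage 𝒴) (f : 𝒳 ⥤ᵇ 𝒴) :
    AlgSt.IsAlgStack Scheme.fppfPrecoverage (FibCat.inertia f) :=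
  isAlgStack_of_rep (K735.Setoid.isFibGrpd_inertia h𝒳.isStack.1 h𝒴.isStack.1 f) h𝒳 (FibCat.inertiaToBase f)
    (repByAlgSp1_inertia (repByAlgSp1_diag h𝒳 h𝒴 f))

end K894.Ifc
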