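import Groth.Agent.Gerb.K894.GerbeQ
import Groth.Agent.Gerb.K894.FlatSurj
import Groth.Agent.Gerb.K894.SmST

/-!
# Gerbes in terms of flatness (helper894)
-/

set_option autoImplicit false
set_option backward.isDefEq.respectTransparency false
set_option backward.isDefEq.respectTransparency.types false

universe v₄ u₄ v₃ u₃ v₂ u₂ v u

open CategoryTheory CategoryTheory.Limits AlgebraicGeometry Opposite K735.Fib K735.Fp K735.Rep K735.Pts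

namespace K894.Iff

open K894.GoodP K894.Formal K894.GerbeQ K894.FlatSurj

variable {S : Scheme.{u}} {𝒳 𝒴 : AlgSt.Cat S}

/-- Gerbe from flatness of the morphism and its diagonal. -/
theorem isGerbeOver_of_locQ (h𝒳 : FibCat.IsFibGrpd 𝒳.p) (h𝒴 : FibCat.IsFibGrpd 𝒴.p) (f : 𝒳 ⥤ᵇ 𝒴)
    (h₁ : AlgSt.IsSurjective f) (h₂ : AlgSt.LocQ (AlgSp.LocP @Flat) f)
    (h₃ : AlgSt.LocQ (AlgSp.LocP @LocallyOfFinitePresentation) f)
    (h₁' : AlgSt.IsSurjective (FibCat.diag f)) (h₂' : AlgSt.LocQ (AlgSp.LocP @Flat) (FibCat.diag f))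
    (h₃' : AlgSt.LocQ (AlgSp.LocP @LocallyOfFinitePresentation) (FibCat.diag f)) :
    Gerb.IsGerbeOver (QuotSh.J Scheme.fppfPrecoverage S) f :=
  have := h𝒳
  have := h𝒴
  (isGerbeOver_iff f).2 ⟨locSurjObj_of_locQ f h₂ h₃ h₁, locSurjObj_of_locQ (FibCat.diag f) h₂' h₃' h₁'⟩

/-- Gerbe from flatness of the morphism, the diagonal representable. -/
theorem isGerbeOver_of_rep (h𝒳 : FibCat.IsFibGrpd 𝒳.p) (h𝒴 : FibCat.IsFibGrpd 𝒴.p) (f : 𝒳 ⥤ᵇ 𝒴)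
    (h₁ : AlgSt.IsSurjective f) (h₂ : AlgSt.LocQ (AlgSp.LocP @Flat) f)
    (h₃ : AlgSt.LocQ (AlgSp.LocP @LocallyOfFinitePresentation) f)
    (h₁' : AlgSt.RepByAlgSpWith AlgSp.IsSurjectiveMor (FibCat.diag f))
    (h₂' : AlgSt.RepByAlgSpWith (AlgSp.LocP @Flat) (FibCat.diag f))
    (h₃' : AlgSt.RepByAlgSpWith (AlgSp.LocP @LocallyOfFinitePresentation) (FibCat.diag f)) :
    Gerb.IsGerbeOver (QuotSh.J Scheme.fppfPrecoverage S) f :=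
  have := h𝒳
  have := h𝒴
  (isGerbeOver_iff f).2 ⟨locSurjObj_of_locQ f h₂ h₃ h₁, K894.LocSurj.locSurjObj_of_rep (FibCat.diag f) h₂' h₃' h₁'⟩

theorem locQ_flat_of (h𝒳 : AlgSt.IsAlgStack Scheme.fppfPrecoverage 𝒳) (h𝒴 : AlgSt.IsAlgStack Scheme.fppfPrecoverage 𝒴)
    (f : 𝒳 ⥤ᵇ 𝒴) (hf : Gerb.LocSurjObj (QuotSh.J Scheme.fppfPrecoverage S) f)
    (hΔ₁ : AlgSt.RepByAlgSpWith (AlgSp.LocP @Flat) (FibCat.diag f))
    (hΔ₂ : AlgSt.RepByAlgSpWith (AlgSp.LocP @LocallyOfFinitePresentation) (FibCat.diag f))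
    (hΔ₃ : AlgSt.IsSurjective (FibCat.diag f)) : AlgSt.LocQ (AlgSp.LocP @Flat) f :=
  locQ_of K597.etLoc_flat (fun _ _ _ h _ => h)
    (K894.SmST.isLocalOnSource_fppf_of_fpqc (Groth.Agent.S10548.result S)) h𝒳 h𝒴 f hf hΔ₁ hΔ₂ hΔ₃

theorem locQ_lfp_of (h𝒳 : AlgSt.IsAlgStack Scheme.fppfPrecoverage 𝒳) (h𝒴 : AlgSt.IsAlgStack Scheme.fppfPrecoverage 𝒴)
    (f : 𝒳 ⥤ᵇ 𝒴) (hf : Gerb.LocSurjObj (QuotSh.J Scheme.fppfPrecoverage S) f)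
    (hΔ₁ : AlgSt.RepByAlgSpWith (AlgSp.LocP @Flat) (FibCat.diag f))
    (hΔ₂ : AlgSt.RepByAlgSpWith (AlgSp.LocP @LocallyOfFinitePresentation) (FibCat.diag f))
    (hΔ₃ : AlgSt.IsSurjective (FibCat.diag f)) : AlgSt.LocQ (AlgSp.LocP @LocallyOfFinitePresentation) f :=
  locQ_of K597.etLoc_lfp (fun _ _ _ _ h => h) (Groth.Agent.S10549.result S) h𝒳 h𝒴 f hf hΔ₁ hΔ₂ hΔ₃

end K894.Iff
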