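import Groth.Agent.Gerb.K894.Formal
import Groth.Agent.AlgSt.K735.Fib
import Groth.Prelude.Def_StGerb2
import Mathlib.CategoryTheory.Sites.LocallySurjective
import Mathlib.CategoryTheory.Sites.LocallyInjective
import Mathlib.CategoryTheory.Sites.LocallyBijective

/-!
# The sheaf of isomorphism classes of a category fibred in groupoids (helper894)
-/

set_option autoImplicit false
set_option backward.isDefEq.respectTransparency false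
set_option backward.isDefEq.respectTransparency.types false

universe w v₃ u₃ v₂ u₂ v u

open CategoryTheory Opposite AlgebraicGeometry

namespace K894.IsoSh

section

variable {C : Type u} [Category.{v} C] (𝒳 : BasedCategory.{v₂, u₂} C) [FibCat.IsFibGrpd 𝒳.p]

theorem cls_map {x' x : 𝒳.obj} (φ : x' ⟶ x) :
    (Gerb.isoClPsh 𝒳).map (𝒳.p.map φ).op (Quot.mk _ (Gerb.fib x)) = Quot.mk _ (Gerb.fib x') := by
  change Quot.mk _ (Gerb.pullFib 𝒳 (𝒳.p.map φ) (Gerb.fib x)) = _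
  have h : 𝒳.p.IsHomLift (𝒳.p.map φ ≫ eqToHom (rfl : 𝒳.p.obj x = 𝒳.p.obj x).symm) φ :=
    IsHomLift.of_fac' 𝒳.p _ _ rfl rfl (by simp)
  obtain ⟨χ, hχ, -⟩ := Gerb.exists_hom_pull 𝒳 x _ φ h
  exact (Quot.sound ⟨⟨χ, hχ⟩⟩).symm

/-- The functor to isomorphism classes. -/
def cls : 𝒳 ⥤ᵇ Stk.ofPsh (Gerb.isoClPsh 𝒳) where
  toFunctor :=
    { obj := fun x => ⟨𝒳.p.obj x, Quot.mk _ (Gerb.fib x)⟩
      map := fun φ => ⟨𝒳.p.map φ, cls_map 𝒳 φ⟩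
      map_id := fun x => Stk.EltObj.hom_ext (𝒳.p.map_id x)
      map_comp := fun f g => Stk.EltObj.hom_ext (𝒳.p.map_comp f g) }
  w := rfl

variable {𝒳} in
theorem exists_hom_of_eqvGen {U : C} {a b : 𝒳.p.Fiber U} (h : Relation.EqvGen (Gerb.IsoRel 𝒳 U) a b) :
    Nonempty (a ⟶ b) := by
  induction h with
  | rel x y h => exact h
  | refl x => exact ⟨𝟙 x⟩
  | symm x y _ ih =>
    obtain ⟨φ⟩ := ih
    have hv : K735.Fib.Vert 𝒳.p φ.1 := K735.Fib.vert_of_isHomLift φ.2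
    have hi := hv.isIso ‹_›
    exact ⟨⟨inv φ.1, hv.inv.isHomLift y.2⟩⟩
  | trans x y z h1 h2 ih1 ih2 =>
    obtain ⟨φ⟩ := ih1
    obtain ⟨ψ⟩ := ih2
    exact ⟨φ ≫ ψ⟩

variable {𝒳} in
/-- Equality of classes gives a vertical morphism. -/
theorem exists_hom_of_eq {U : C} {a b : 𝒳.p.Fiber U} (h : Quot.mk (Gerb.IsoRel 𝒳 U) a = Quot.mk _ b) :
    Nonempty (a ⟶ b) := exists_hom_of_eqvGen (Quot.eqvGen_exact h)

/-! ### the sheafification -/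

variable (J : GrothendieckTopology C) {𝒳} {Q : Cᵒᵖ ⥤ Type u₂} (η : Gerb.isoClPsh 𝒳 ⟶ Q)

/-- The functor to a presheaf under the presheaf of classes. -/
noncomputable def toPsh : 𝒳 ⥤ᵇ Stk.ofPsh Q := BasedFunctor.comp (cls 𝒳) (Stk.ofPshMap η)

theorem locSurjObj_toPsh [Presheaf.IsLocallySurjective J η] : Gerb.LocSurjObj J (toPsh η) := by
  rintro ⟨T, s⟩
  refine ⟨_, Presheaf.imageSieve_mem J η s, ?_⟩
  rintro V f ⟨c, hx⟩
  obtain ⟨⟨x, hV⟩, rfl⟩ := Quot.exists_rep c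
  change 𝒳.p.obj x = V at hV
  subst hV
  exact ⟨x, ⟨f, hx.symm⟩, IsHomLift.map (Stk.ofPsh Q).p (⟨f, hx.symm⟩ : (toPsh η).obj x ⟶ ⟨T, s⟩)⟩

theorem locSurjHom_toPsh [Presheaf.IsLocallyInjective J η] : Gerb.LocSurjHom J (toPsh η) := by
  intro x x' b hb
  let β : 𝒳.p.obj x ⟶ 𝒳.p.obj x' := b.hom
  have e : 𝒳.p.obj x' = 𝒳.p.obj x := IsHomLift.codomain_eq (Stk.ofPsh Q).p (𝟙 (𝒳.p.obj x)) b
  have hβ : β = eqToHom e.symm := by
    have h := IsHomLift.fac' (Stk.ofPsh Q).p (𝟙 (𝒳.p.obj x)) b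
    change β = _ ≫ _ ≫ _ at h
    rw [h, Category.id_comp, eqToHom_trans]
  have h1 : η.app (op (𝒳.p.obj x)) ((Gerb.isoClPsh 𝒳).map β.op (Quot.mk _ (Gerb.fib x'))) =
      η.app (op (𝒳.p.obj x)) (Quot.mk _ (Gerb.fib x)) := by
    rw [NatTrans.naturality_apply]
    exact b.map_sec
  refine ⟨_, Presheaf.equalizerSieve_mem J η _ _ h1, fun V f hf => ?_⟩
  have hf' : (Gerb.isoClPsh 𝒳).map (f ≫ β).op (Quot.mk _ (Gerb.fib x')) =
      (Gerb.isoClPsh 𝒳).map f.op (Quot.mk _ (Gerb.fib x)) := by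
    rw [op_comp, Functor.map_comp_apply]
    exact hf
  obtain ⟨θ⟩ := exists_hom_of_eq (a := Gerb.pullFib 𝒳 f (Gerb.fib x)) (b := Gerb.pullFib 𝒳 (f ≫ β) (Gerb.fib x')) hf'.symm
  let φ := Gerb.pullHom 𝒳 x (f ≫ eqToHom (Gerb.fib x).2.symm)
  let ψ := Gerb.pullHom 𝒳 x' ((f ≫ β) ≫ eqToHom (Gerb.fib x').2.symm)
  have hφ' : 𝒳.p.IsHomLift f φ := IsHomLift.of_fac' 𝒳.p f _ (Gerb.pull_over 𝒳 x _) rfl (by
    dsimp only [φ]
    rw [Gerb.pullHom_map])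
  have hψ' : 𝒳.p.IsHomLift f ψ := IsHomLift.of_fac' 𝒳.p f _ (Gerb.pull_over 𝒳 x' _) e (by
    dsimp only [ψ]
    rw [Gerb.pullHom_map]
    congr 1
    rw [eqToHom_refl, Category.comp_id]
    exact congrArg (f ≫ ·) hβ)
  have hθ : 𝒳.p.IsHomLift (𝟙 V) θ.1 := θ.2
  have hθψ := @IsHomLift.comp _ _ _ _ 𝒳.p _ _ _ _ _ _ (𝟙 V) f θ.1 ψ hθ hψ'
  rw [Category.id_comp] at hθψ
  refine ⟨_, φ, θ.1 ≫ ψ, hφ', hθψ, ?_⟩
  apply Stk.EltObj.hom_ext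
  change 𝒳.p.map φ ≫ β = 𝒳.p.map (θ.1 ≫ ψ)
  have h2 := IsHomLift.fac' 𝒳.p f φ
  have h3 := IsHomLift.fac' 𝒳.p f (θ.1 ≫ ψ)
  refine (congrArg (𝒳.p.map φ ≫ ·) hβ).trans ?_
  rw [h2, h3]
  simp

theorem isGerbeOver_toPsh [Presheaf.IsLocallySurjective J η] [Presheaf.IsLocallyInjective J η] :
    Gerb.IsGerbeOver J (toPsh η) := ⟨locSurjObj_toPsh J η, locSurjHom_toPsh J η⟩

end

end K894.IsoSh
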