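import Groth.Agent.Gerb.K894.IsoSh
import Groth.Agent.Gerb.K894.GerbeQ
import Groth.Agent.Gerb.K894.Core
import Groth.Agent.AlgSt.K739.Diag
import Groth.Agent.AlgSt.K738.LftDiag
import Groth.Agent.AlgSt.K734.FpAlg
import Groth.Agent.AlgSt.K740.RepBC
import Groth.Agent.AlgSt.K740.SpIso
import Groth.Agent.AlgSt.K741.OfSp
import Groth.Agent.AlgSp.K607.SpKer
import Groth.Agent.S10104
import Groth.Agent.S10557

/-!
# The sheaf over which a gerbe lives is an algebraic space (helper894)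
-/

set_option autoImplicit false
set_option backward.isDefEq.respectTransparency false
set_option backward.isDefEq.respectTransparency.types false

universe w₁ w₂ v₄ u₄ v₃ u₃ v₂ u₂ v u

open CategoryTheory CategoryTheory.Limits AlgebraicGeometry Opposite K735.Fib K735.Fp K735.Rep K735.Pts

namespace K894.IsoSp

open K894.GoodP K894.BCRep K594.Cover K894.Loc K894.LocSurj K894.Formal K894.GerbeQ K894.Core

/-! ### Thin targets -/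

section Thin

variable {S : Scheme.{u}} {𝒳 : AlgSt.Cat S} {𝒴 : BasedCategory.{v₂, u₂} (Over S)}
  {𝒵 : BasedCategory.{v₃, u₃} (Over S)}

theorem eq_of_isHomLift {𝒴 : BasedCategory.{v₂, u₂} (Over S)} (h : 𝒴.p.Faithful) {a b : 𝒴.obj} {T : Over S}
    (φ ψ : a ⟶ b) (hφ : 𝒴.p.IsHomLift (𝟙 T) φ) (hψ : 𝒴.p.IsHomLift (𝟙 T) ψ) : φ = ψ := by
  apply h.map_injective
  exact (IsHomLift.fac' 𝒴.p (𝟙 T) φ).trans (IsHomLift.fac' 𝒴.p (𝟙 T) ψ).symm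

open K739.Isom in
/-- Sections of `Isom` do not depend on a thin target. -/
def thinEquiv {f : 𝒳 ⥤ᵇ 𝒴} {g : 𝒳 ⥤ᵇ 𝒵} (hf : 𝒴.p.Faithful) (hg : 𝒵.p.Faithful) {U : Over S}
    {x₁ x₂ : FibCat.overCat U ⥤ᵇ 𝒳} {φ : BasedFunctor.comp x₁ f ≅ BasedFunctor.comp x₂ f}
    {φ' : BasedFunctor.comp x₁ g ≅ BasedFunctor.comp x₂ g} (T : Over S) :
    Sec f x₁ x₂ φ T ≃ Sec g x₁ x₂ φ' T where
  toFun s := ⟨s.u, s.ψ, s.lift, by
    have := s.lift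
    exact eq_of_isHomLift hg _ _ (BasedFunctor.preserves_isHomLift g (𝟙 T) s.ψ)
      (φ'.hom.isHomLift' (pt s.u))⟩
  invFun s := ⟨s.u, s.ψ, s.lift, by
    have := s.lift
    exact eq_of_isHomLift hf _ _ (BasedFunctor.preserves_isHomLift f (𝟙 T) s.ψ)
      (φ.hom.isHomLift' (pt s.u))⟩
  left_inv _ := rfl
  right_inv _ := rfl

open K739.Isom K739.Diag K739.Rep in
/-- The diagonal of a functor to a thin category is a base change of the absolute diagonal. -/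
theorem repByAlgSpWith_diag_of_thin {P : MorphismProperty (AlgSp.Sp S)} {f : 𝒳 ⥤ᵇ 𝒴} {g : 𝒳 ⥤ᵇ 𝒵}
    (hf : 𝒴.p.Faithful) (hg : 𝒵.p.Faithful) (h𝒳 : FibCat.IsFibGrpd 𝒳.p) (h𝒴 : FibCat.IsFibGrpd 𝒴.p)
    (h𝒵 : FibCat.IsFibGrpd 𝒵.p) (hc : ∀ (U : Over S) (x₁ x₂ : FibCat.overCat U ⥤ᵇ 𝒳),
      (BasedFunctor.comp x₁ f ≅ BasedFunctor.comp x₂ f) → Nonempty (BasedFunctor.comp x₁ g ≅ BasedFunctor.comp x₂ g))
    (h : AlgSt.RepByAlgSpWith P (FibCat.diag g)) : AlgSt.RepByAlgSpWith P (FibCat.diag f) := by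
  rw [repByAlgSpWith_diag_iff P f h𝒳 h𝒴]
  intro U x₁ x₂ φ
  obtain ⟨φ'⟩ := hc U x₁ x₂ φ
  refine ((repByAlgSpWith_diag_iff P g h𝒳 h𝒵).1 h U x₁ x₂ φ').of_iso
    (isoOf h𝒳 h𝒵 h𝒳 h𝒴 (thinEquiv hg hf) fun T T' t s s' hs => hs) ?_
  rfl

end Thin

/-! ### The inertia does not depend on a thin target -/

section Inertia

variable {C : Type u} [Category.{v} C] {𝒳 : BasedCategory.{v₂, u₂} C} {𝒴 : BasedCategory.{v₃, u₃} C}
  {𝒵 : BasedCategory.{v₄, u₄} C} {f : 𝒳 ⥤ᵇ 𝒴} {g : 𝒳 ⥤ᵇ 𝒵}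

/-- The comparison of inertias. -/
def inertiaCh (h : ∀ (x : 𝒳.obj) (a : x ⟶ x), f.map a = 𝟙 _ → g.map a = 𝟙 _) :
    FibCat.inertia f ⥤ᵇ FibCat.inertia g where
  toFunctor :=
    { obj := fun x => ⟨x.pt, x.aut, h _ _ x.map_aut⟩
      map := fun φ => ⟨φ.hom, φ.comm⟩ }
  w := rfl

theorem isEquivOver_inertiaCh (h : ∀ (x : 𝒳.obj) (a : x ⟶ x), f.map a = 𝟙 _ → g.map a = 𝟙 _)
    (h' : ∀ (x : 𝒳.obj) (a : x ⟶ x), g.map a = 𝟙 _ → f.map a = 𝟙 _) : FibCat.IsEquivOver (inertiaCh h) :=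
  ⟨inertiaCh h', ⟨Iso.refl _⟩, ⟨Iso.refl _⟩⟩

theorem map_eq_id_of_faithful (hf : 𝒴.p.Faithful) (hg : 𝒵.p.Faithful) (x : 𝒳.obj) (a : x ⟶ x)
    (h : f.map a = 𝟙 _) : g.map a = 𝟙 _ := by
  have h1 : 𝒳.p.map a = 𝟙 _ := by
    have h2 := map_map f a
    have h3 : 𝒴.p.map (f.map a) = 𝟙 _ := by
      rw [h]
      exact 𝒴.p.map_id _
    rw [h3] at h2
    have h4 : eqToHom (f.w_obj x) ≫ 𝒳.p.map a = eqToHom (f.w_obj x) := by
      rw [← cancel_mono (eqToHom (f.w_obj x).symm), Category.assoc, ← h2, eqToHom_trans, eqToHom_refl]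
    rw [← cancel_epi (eqToHom (f.w_obj x)), h4, Category.comp_id]
  apply hg.map_injective
  have h2 := map_map g a
  rw [h2, h1, 𝒵.p.map_id]
  simp

theorem isEquivOver_inertiaCh' (hf : 𝒴.p.Faithful) (hg : 𝒵.p.Faithful) :
    FibCat.IsEquivOver (inertiaCh (map_eq_id_of_faithful (f := f) (g := g) hf hg)) :=
  isEquivOver_inertiaCh _ (map_eq_id_of_faithful hg hf)

end Inertia

section InertiaS

variable {S : Scheme.{u}} {𝒳 : BasedCategory.{v₂, u₂} (Over S)} {𝒴 : BasedCategory.{v₃, u₃} (Over S)}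
  {𝒵 : BasedCategory.{v₄, u₄} (Over S)} {f : 𝒳 ⥤ᵇ 𝒴} {g : 𝒳 ⥤ᵇ 𝒵}

theorem repByAlgSpWith_inertia_thin {P : MorphismProperty (AlgSp.Sp S)} (hf : 𝒴.p.Faithful) (hg : 𝒵.p.Faithful)
    (h : AlgSt.RepByAlgSpWith P (FibCat.inertiaToBase g)) : AlgSt.RepByAlgSpWith P (FibCat.inertiaToBase f) :=
  repByAlgSpWith_of_sq P _ _ (inertiaCh (map_eq_id_of_faithful (f := f) (g := g) hf hg)) (BasedFunctor.id _)
    (isEquivOver_inertiaCh' hf hg) isEquivOver_id (Iso.refl _) h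

end InertiaS

/-! ### The thin categories we use -/

section Use

variable {S : Scheme.{u}} {𝒳 : AlgSt.Cat S}

theorem faithful_selfOver {C : Type u} [Category.{v} C] : (FibCat.selfOver C).p.Faithful :=
  ⟨fun h => h⟩

theorem faithful_ofSp (F : AlgSp.Sp S) : (AlgSt.ofSp F).p.Faithful :=
  ⟨fun h => ofSp_hom_ext h⟩

theorem repByAlgSpWith_diag_ofSp {P : MorphismProperty (AlgSp.Sp S)} (h𝒳 : FibCat.IsFibGrpd 𝒳.p)
    {F : AlgSp.Sp S} (π : 𝒳 ⥤ᵇ AlgSt.ofSp F)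
    (h : AlgSt.RepByAlgSpWith P (FibCat.diag (FibCat.toSelf 𝒳))) : AlgSt.RepByAlgSpWith P (FibCat.diag π) :=
  repByAlgSpWith_diag_of_thin (faithful_ofSp F) faithful_selfOver h𝒳 (isFibGrpd_ofSp F) isFibGrpd_selfOver
    (fun _ _ _ _ => ⟨K734.Rep.isoSelfOver _ _⟩) h

theorem repByAlgSpWith_inertia_ofSp {P : MorphismProperty (AlgSp.Sp S)}
    {F : AlgSp.Sp S} (π : 𝒳 ⥤ᵇ AlgSt.ofSp F)
    (h : AlgSt.RepByAlgSpWith P (FibCat.inertiaToBase (FibCat.toSelf 𝒳))) :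
    AlgSt.RepByAlgSpWith P (FibCat.inertiaToBase π) :=
  repByAlgSpWith_inertia_thin (faithful_ofSp F) faithful_selfOver h

theorem repByAlgSpWith_inertia_ofSp' {P : MorphismProperty (AlgSp.Sp S)}
    {F : AlgSp.Sp S} (π : 𝒳 ⥤ᵇ AlgSt.ofSp F)
    (h : AlgSt.RepByAlgSpWith P (FibCat.inertiaToBase π)) :
    AlgSt.RepByAlgSpWith P (FibCat.inertiaToBase (FibCat.toSelf 𝒳)) :=
  repByAlgSpWith_inertia_thin faithful_selfOver (faithful_ofSp F) h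

end Use

end K894.IsoSp
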