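import Groth.Agent.Gerb.K894.IsoSp
import Groth.Agent.AlgSt.K743.DiagBC

/-!
# A gerbe with flat, locally finitely presented inertia lives over an algebraic space (helper894)
-/

set_option autoImplicit false
set_option backward.isDefEq.respectTransparency false
set_option backward.isDefEq.respectTransparency.types false

universe w₁ w₂ v₄ u₄ v₃ u₃ v₂ u₂ v u

open CategoryTheory CategoryTheory.Limits AlgebraicGeometry Opposite K735.Fib K735.Fp K735.Rep K735.Pts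

namespace K894.IsoSp

open K894.GoodP K894.BCRep K594.Cover K894.Loc K894.LocSurj K894.Formal K894.GerbeQ K894.Core

variable {S : Scheme.{u}} {𝒳 : AlgSt.Cat S}

/-- The diagonal has the fppf-local properties satisfied by the inertia, as soon as morphisms lift locally. -/
theorem repByAlgSpWith_diag_of_inertia {𝒴 : AlgSt.Cat S} {P : MorphismProperty Scheme.{u}} (hP : Good S P)
    (h𝒳 : FibCat.IsFibGrpd 𝒳.p) (h𝒴 : FibCat.IsFibGrpd 𝒴.p) (f : 𝒳 ⥤ᵇ 𝒴)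
    (hf : Gerb.LocSurjHom (QuotSh.J Scheme.fppfPrecoverage S) f)
    (hI : AlgSt.RepByAlgSpWith (AlgSp.LocP P) (FibCat.inertiaToBase f)) (hΔ : AlgSt.RepByAlgSp1 (FibCat.diag f)) :
    AlgSt.RepByAlgSpWith (AlgSp.LocP P) (FibCat.diag f) := by
  intro U y
  have i1 : FibCat.IsFibGrpd 𝒳.p := h𝒳
  have i2 : FibCat.IsFibGrpd 𝒴.p := h𝒴
  obtain ⟨R, hR, h⟩ := exists_lift_of_locSurjObj (locSurjHom_iff_diag (F := f) |>.1 hf) y
  refine repOver_fp_of_sieve hP.loc hP.bc (FibCat.diag f) y (hΔ U y) hR fun T s hs => ?_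
  obtain ⟨z, ⟨e⟩⟩ := h s hs
  refine repOver_congr e _ ?_
  have h1 : RepOver (AlgSp.LocP P) (FibCat.fpFst z (FibCat.inertiaToBase f)) := hI T z
  exact h1.of_equiv (K743.BC.cmp (FibCat.inertiaToBase f) (FibCat.diag f) (FibCat.inertiaToBase f) (FibCat.diag f)
    (K894.Inertia.tautE f) z) ((K894.Inertia.inertia_isCart f).cmp_isEquivOver z) (Iso.refl _)

theorem locSurjObj_of_iso {C : Type u} [Category.{v} C] {J : GrothendieckTopology C}
    {𝒳 : BasedCategory.{v₂, u₂} C} {𝒴 : BasedCategory.{v₃, u₃} C} {F F' : 𝒳 ⥤ᵇ 𝒴} (e : F ≅ F')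
    (h : Gerb.LocSurjObj J F) : Gerb.LocSurjObj J F' := by
  intro y
  obtain ⟨R, hR, H⟩ := h y
  refine ⟨R, hR, fun V f hf => ?_⟩
  obtain ⟨x, g, hg⟩ := H f hf
  have hx : 𝒳.p.obj x = V := (F.w_obj x).symm.trans (IsHomLift.domain_eq 𝒴.p f g)
  have h1 : 𝒴.p.IsHomLift (𝟙 V) (e.inv.toNatTrans.app x) := e.inv.isHomLift hx
  have h2 : 𝒴.p.IsHomLift (𝟙 V ≫ f) (e.inv.toNatTrans.app x ≫ g) := inferInstance
  rw [Category.id_comp] at h2
  exact ⟨x, _, h2⟩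

theorem isLocallySurjective_of_locSurjObj {F G : AlgSp.Sp S} (a : F ⟶ G)
    (h : Gerb.LocSurjObj (AlgSp.J S) (AlgSt.ofSpMap a)) : Sheaf.IsLocallySurjective a := by
  constructor
  intro U s
  obtain ⟨R, hR, hl⟩ := h ⟨U, s⟩
  refine GrothendieckTopology.superset_covering _ ?_ hR
  intro V f hf
  obtain ⟨x, g, hg⟩ := hl f hf
  have h1 : x.base = V := IsHomLift.domain_eq (AlgSt.ofSp G).p f g
  obtain ⟨T, t⟩ := x
  dsimp only at h1
  subst h1
  have h2 : g.hom = f := by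
    have := IsHomLift.fac' (AlgSt.ofSp G).p f g
    change g.hom = _ at this
    rw [this]
    simp
  refine ⟨t, ?_⟩
  have h3 := g.map_sec
  rw [h2] at h3
  exact h3.symm

section Main

variable {V : Over S} {F : AlgSp.Sp S}

/-- The comparison of kernel pairs. -/
theorem exists_cmp (π : 𝒳 ⥤ᵇ AlgSt.ofSp F) (u : AlgSt.ofSp ((AlgSp.yon S).obj V) ⥤ᵇ 𝒳) {Z : AlgSp.Sp S}
    (a : AlgSt.ofSp Z ⥤ᵇ FibCat.fp u u) (ha : FibCat.IsEquivOver a)
    {q : (AlgSp.yon S).obj V ⟶ F} (j : BasedFunctor.comp u π ≅ AlgSt.ofSpMap q)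
    {s' : Z ⟶ (AlgSp.yon S).obj V} (js : BasedFunctor.comp a (FibCat.fpFst u u) ≅ AlgSt.ofSpMap s')
    {R : AlgSp.Sp S} {s t : R ⟶ (AlgSp.yon S).obj V} (sq : IsPullback s t q q) :
    ∃ p : Z ⟶ R, p ≫ s = s' ∧ ∀ P : MorphismProperty (AlgSp.Sp S), AlgSt.RepByAlgSpWith P (FibCat.diag π) →
      AlgSt.RepByAlgSpWith P (AlgSt.ofSpMap p) := by
  let w := BasedFunctor.comp u π
  let b₀ := FibCat.fpLift (AlgSt.ofSpMap s) (AlgSt.ofSpMap t) (K740.RepBC.sqIso sq.w)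
  have hb₀ : FibCat.IsEquivOver b₀ := K740.RepBC.isEquivOver_fpOfSp sq
  let b₁ := K734.Fib.fpCongrL j (AlgSt.ofSpMap q)
  have hb₁ : FibCat.IsEquivOver b₁ := K734.Fib.isEquivOver_fpCongrL j _
  let b₂ := K734.Fib.fpCongrR w j
  have hb₂ : FibCat.IsEquivOver b₂ := K734.Fib.isEquivOver_fpCongrR w j
  let b := BasedFunctor.comp (BasedFunctor.comp b₀ b₁) b₂
  have hb : FibCat.IsEquivOver b := IsEquivOver.comp (IsEquivOver.comp hb₀ hb₁) hb₂
  let e : BasedFunctor.comp (FibCat.fpFst u u) (BasedFunctor.comp u π) ≅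
    BasedFunctor.comp (FibCat.fpSnd u u) (BasedFunctor.comp u π) := whiskerRightIso (FibCat.fpIso u u) π
  let c : FibCat.fp u u ⥤ᵇ FibCat.fp w w := FibCat.fpLift (FibCat.fpFst u u) (FibCat.fpSnd u u) e
  have hc : ∀ P : MorphismProperty (AlgSp.Sp S), AlgSt.RepByAlgSpWith P (FibCat.diag π) →
      AlgSt.RepByAlgSpWith P c := fun P hP =>
    K743.DiagBC.repByAlgSpWith_cmp u u π e (fun x => rfl) hP
  obtain ⟨b', hb', ⟨k₁⟩, ⟨k₂⟩⟩ := IsEquivOver.exists_inv hb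
  obtain ⟨jp⟩ := exists_iso_spMap (BasedFunctor.comp (BasedFunctor.comp a c) b')
  let p : Z ⟶ R := spMap (BasedFunctor.comp (BasedFunctor.comp a c) b')
  have i₁ : BasedFunctor.comp (AlgSt.ofSpMap p) b ≅ BasedFunctor.comp a c :=
    whiskerRightIso jp.symm b ≪≫ (whiskerLeftIso (BasedFunctor.comp a c) k₂ :
      BasedFunctor.comp (BasedFunctor.comp a c) (BasedFunctor.comp b' b) ≅ _)
  refine ⟨p, ?_, fun P hP => repByAlgSpWith_of_sq P c _ a b ha hb i₁ (hc P hP)⟩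
  apply ofSpMap_injective
  have i₂ : BasedFunctor.comp (AlgSt.ofSpMap p) (BasedFunctor.comp b (FibCat.fpFst w w)) ≅
      BasedFunctor.comp a (FibCat.fpFst u u) :=
    (whiskerRightIso i₁ (FibCat.fpFst w w) : BasedFunctor.comp (BasedFunctor.comp (AlgSt.ofSpMap p) b) _ ≅ _)
  exact i₂ ≪≫ js

/-- The kernel pair of an atlas of an algebraic stack with flat and locally finitely presented inertia which is a gerbe
over the sheaf `F`. -/
theorem kernel_of_gerbe (h𝒳 : AlgSt.IsAlgStack Scheme.fppfPrecoverage 𝒳) (π : 𝒳 ⥤ᵇ AlgSt.ofSp F)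
    (hπ : Gerb.IsGerbeOver (QuotSh.J Scheme.fppfPrecoverage S) π)
    (hI₁ : AlgSt.RepByAlgSpWith (AlgSp.LocP @Flat) (FibCat.inertiaToBase (FibCat.toSelf 𝒳)))
    (hI₂ : AlgSt.RepByAlgSpWith (AlgSp.LocP @LocallyOfFinitePresentation) (FibCat.inertiaToBase (FibCat.toSelf 𝒳)))
    (v : FibCat.overCat V ⥤ᵇ 𝒳) (hv₁ : AlgSt.RepByAlgSpWith (AlgSp.LocP @Smooth) v)
    (hv₂ : AlgSt.RepByAlgSpWith AlgSp.IsSurjectiveMor v) :
    ∃ q : (AlgSp.yon S).obj V ⟶ F,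
      Nonempty (BasedFunctor.comp (BasedFunctor.comp (AlgSt.toOverCat V) v) π ≅ AlgSt.ofSpMap q) ∧
      Sheaf.IsLocallySurjective q ∧ AlgSp.IsAlgSpace (pullback q q) ∧ AlgSp.LocP @Flat (pullback.fst q q) ∧
      AlgSp.LocP @LocallyOfFinitePresentation (pullback.fst q q) ∧
      AlgSp.LocP @LocallyOfFiniteType (pullback.snd q q) := by
  have i1 : FibCat.IsFibGrpd 𝒳.p := h𝒳.isStack.1
  have i2 : FibCat.IsFibGrpd (AlgSt.ofSp F).p := isFibGrpd_ofSp F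
  have hΔ : AlgSt.RepByAlgSp1 (FibCat.diag π) := by
    rw [repByAlgSp1_iff_top]
    exact repByAlgSpWith_diag_ofSp i1 π ((repByAlgSp1_iff_top _).1 h𝒳.diag)
  have hΔ₁ : AlgSt.RepByAlgSpWith (AlgSp.LocP @Flat) (FibCat.diag π) :=
    repByAlgSpWith_diag_of_inertia (good_flat S) i1 i2 π hπ.2 (repByAlgSpWith_inertia_ofSp π hI₁) hΔ
  have hΔ₂ : AlgSt.RepByAlgSpWith (AlgSp.LocP @LocallyOfFinitePresentation) (FibCat.diag π) :=
    repByAlgSpWith_diag_of_inertia (good_lfp S) i1 i2 π hπ.2 (repByAlgSpWith_inertia_ofSp π hI₂) hΔ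
  have i3 : FibCat.IsFibGrpd (FibCat.fp π π).p := isFibGrpd_fp i1 i1 i2 π π
  have hΔ₃ : AlgSt.RepByAlgSpWith AlgSp.IsSurjectiveMor (FibCat.diag π) :=
    (K735.Top.repByAlgSpWith_surjective_iff i3 i1 hΔ).1
      (K894.Surj.isSurjective_of_locSurjObj _ (locSurjHom_iff_diag (F := π) |>.1 hπ.2))
  let u : AlgSt.ofSp ((AlgSp.yon S).obj V) ⥤ᵇ 𝒳 := BasedFunctor.comp (AlgSt.toOverCat V) v
  have hu₁ : AlgSt.RepByAlgSpWith (AlgSp.LocP @Smooth) u := (K741.repByAlgSpWith_toOverCat _ _).1 hv₁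
  have hu₂ : AlgSt.RepByAlgSpWith AlgSp.IsSurjectiveMor u := (K741.repByAlgSpWith_toOverCat _ _).1 hv₂
  have i4 : FibCat.IsFibGrpd (AlgSt.ofSp ((AlgSp.yon S).obj V)).p := isFibGrpd_ofSp _
  have hmono : ∀ {Q : MorphismProperty Scheme.{u}}, @Smooth ≤ Q → AlgSt.RepByAlgSpWith (AlgSp.LocP Q) u :=
    fun hQ => AlgSt_RepByAlgSpWith_mono (fun _ _ _ h => K597.locP_mono hQ h) hu₁
  have hus : Gerb.LocSurjObj (QuotSh.J Scheme.fppfPrecoverage S) u :=
    locSurjObj_of_rep u (hmono (good_flat S).smooth) (hmono (good_lfp S).smooth) hu₂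
  -- the chart of the self-intersection
  have hf : AlgSt.RepByAlgSpWith (AlgSp.LocP @Smooth) (FibCat.fpFst u u) := K734.Rep.repByAlgSpWith_fpFst _ u u hu₁
  obtain ⟨Z, a₀, ha₀, -⟩ := hf V (AlgSt.ofOverCat V)
  let a : AlgSt.ofSp Z.obj ⥤ᵇ FibCat.fp u u :=
    BasedFunctor.comp a₀ (FibCat.fpSnd (AlgSt.ofOverCat V) (FibCat.fpFst u u))
  have ha : FibCat.IsEquivOver a := IsEquivOver.comp ha₀ (K734.Fib.isEquivOver_fpSnd _ _ (isEquivOver_ofOverCat V))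
  obtain ⟨j⟩ := exists_iso_spMap (BasedFunctor.comp u π)
  obtain ⟨js⟩ := exists_iso_spMap (BasedFunctor.comp a (FibCat.fpFst u u))
  have hs' : AlgSp.LocP @Smooth (spMap (BasedFunctor.comp a (FibCat.fpFst u u))) :=
    K741.prop_of_repByAlgSpWith_ofSpMap K741.stableBC_smooth K741.isLocalOnBase_smooth (AlgSp.IsAlgSpace.yon_obj V)
      (repByAlgSpWith_of_iso _ js (repByAlgSpWith_of_sq _ (FibCat.fpFst u u) _ a (BasedFunctor.id _) ha
        isEquivOver_id (Iso.refl _) hf))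
  have sq := IsPullback.of_hasPullback (spMap (BasedFunctor.comp u π)) (spMap (BasedFunctor.comp u π))
  obtain ⟨p, hps, hp⟩ := exists_cmp π u a ha j js sq
  have hR : AlgSp.IsAlgSpace (pullback (spMap (BasedFunctor.comp u π)) (spMap (BasedFunctor.comp u π))) := by
    refine Groth.Agent.S10104.result S _ Z p ((K734.Rep.repBySpWith_iff _ p.hom).2 ?_)
    exact K740.SpIso.repByAlgSpWith_inf (K740.SpIso.repByAlgSpWith_inf (hp _ hΔ₃) (hp _ hΔ₁)) (hp _ hΔ₂)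
  have i5 : FibCat.IsFibGrpd (AlgSt.ofSp Z.obj).p := isFibGrpd_ofSp _
  have i6 := isFibGrpd_ofSp (pullback (spMap (BasedFunctor.comp u π)) (spMap (BasedFunctor.comp u π)))
  have hpl : Sheaf.IsLocallySurjective p :=
    isLocallySurjective_of_locSurjObj p (locSurjObj_of_rep _ (hp _ hΔ₁) (hp _ hΔ₂) (hp _ hΔ₃))
  have hps' : AlgSp.LocP @Smooth (p ≫ pullback.fst (spMap (BasedFunctor.comp u π)) (spMap (BasedFunctor.comp u π))) := by
    rw [hps]
    exact hs'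
  have key := Groth.Agent.S10557.result (X := Z) (Y := ⟨_, hR⟩) (Z := ⟨_, AlgSp.IsAlgSpace.yon_obj V⟩)
    (ObjectProperty.homMk p) (ObjectProperty.homMk (pullback.fst _ _)) hpl
  have hs₁ : AlgSp.LocP @Flat (pullback.fst (spMap (BasedFunctor.comp u π)) (spMap (BasedFunctor.comp u π))) :=
    key.1 (K597.locP_mono (good_flat S).smooth hps')
  have hs₂ : AlgSp.LocP @LocallyOfFinitePresentation
      (pullback.fst (spMap (BasedFunctor.comp u π)) (spMap (BasedFunctor.comp u π))) :=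
    key.2.2 (K597.locP_mono (good_lfp S).smooth hps')
  have hq : Sheaf.IsLocallySurjective (spMap (BasedFunctor.comp u π)) := by
    refine isLocallySurjective_of_locSurjObj _ (locSurjObj_of_iso j ?_)
    exact locSurjObj_comp hus hπ.1
  have hs₃ : AlgSp.LocP @LocallyOfFiniteType
      (pullback.snd (spMap (BasedFunctor.comp u π)) (spMap (BasedFunctor.comp u π))) := by
    have h1 : AlgSp.LocP @LocallyOfFiniteType
      (pullback.fst (spMap (BasedFunctor.comp u π)) (spMap (BasedFunctor.comp u π))) :=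
      K606.Boot.locP_lft_of_lfp hs₂
    have h2 := (MorphismProperty.cancel_left_of_respectsIso (AlgSp.LocP @LocallyOfFiniteType)
      (pullbackSymmetry (spMap (BasedFunctor.comp u π)) (spMap (BasedFunctor.comp u π))).hom _).2 h1
    rw [pullbackSymmetry_hom_comp_fst] at h2
    exact h2
  exact ⟨_, ⟨j⟩, hq, hR, hs₁, hs₂, hs₃⟩


/-- A sheaf over which an algebraic stack with flat and locally finitely presented inertia is a gerbe is an algebraic
space. -/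
theorem isAlgSpace_of_gerbe (h𝒳 : AlgSt.IsAlgStack Scheme.fppfPrecoverage 𝒳) (π : 𝒳 ⥤ᵇ AlgSt.ofSp F)
    (hπ : Gerb.IsGerbeOver (QuotSh.J Scheme.fppfPrecoverage S) π)
    (hI₁ : AlgSt.RepByAlgSpWith (AlgSp.LocP @Flat) (FibCat.inertiaToBase (FibCat.toSelf 𝒳)))
    (hI₂ : AlgSt.RepByAlgSpWith (AlgSp.LocP @LocallyOfFinitePresentation) (FibCat.inertiaToBase (FibCat.toSelf 𝒳))) :
    AlgSp.IsAlgSpace F := by
  obtain ⟨V, v, hv₁, hv₂⟩ := h𝒳.atlas
  obtain ⟨q, -, hq, hR, hs₁, hs₂, hs₃⟩ := kernel_of_gerbe h𝒳 π hπ hI₁ hI₂ v hv₁ hv₂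
  exact K607.SpKer.isAlgSpace_of_kernelPair (AlgSp.IsAlgSpace.yon_obj V) hR (IsPullback.of_hasPullback q q).flip
    hs₁ hs₂ hs₃

/-- A smooth atlas of the stack is a flat, locally finitely presented, surjective chart of the space. -/
theorem exists_cover_of_gerbe (h𝒳 : AlgSt.IsAlgStack Scheme.fppfPrecoverage 𝒳) (π : 𝒳 ⥤ᵇ AlgSt.ofSp F)
    (hπ : Gerb.IsGerbeOver (QuotSh.J Scheme.fppfPrecoverage S) π)
    (hI₁ : AlgSt.RepByAlgSpWith (AlgSp.LocP @Flat) (FibCat.inertiaToBase (FibCat.toSelf 𝒳)))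
    (hI₂ : AlgSt.RepByAlgSpWith (AlgSp.LocP @LocallyOfFinitePresentation) (FibCat.inertiaToBase (FibCat.toSelf 𝒳)))
    (v : FibCat.overCat V ⥤ᵇ 𝒳) (hv₁ : AlgSt.RepByAlgSpWith (AlgSp.LocP @Smooth) v)
    (hv₂ : AlgSt.RepByAlgSpWith AlgSp.IsSurjectiveMor v) :
    ∃ q : (AlgSp.yon S).obj V ⟶ F,
      Nonempty (BasedFunctor.comp (BasedFunctor.comp (AlgSt.toOverCat V) v) π ≅ AlgSt.ofSpMap q) ∧
      AlgSp.IsSurjectiveMor q ∧ AlgSp.LocP @Flat q ∧ AlgSp.LocP @LocallyOfFinitePresentation q := by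
  obtain ⟨q, hj, hq, hR, hs₁, hs₂, hs₃⟩ := kernel_of_gerbe h𝒳 π hπ hI₁ hI₂ v hv₁ hv₂
  exact ⟨q, hj, K607.SpKer.props_of_kernelPair (AlgSp.IsAlgSpace.yon_obj V) hR (IsPullback.of_hasPullback q q).flip
    hs₁ hs₂ hs₃⟩

end Main

end K894.IsoSp
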