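import Groth.Agent.Gerb.K894.SmST
import Groth.Agent.S12993

/-!
# `LocQ` and `RepByAlgSpWith` for flat, lfp, lft (helper894)
-/

set_option autoImplicit false
set_option backward.isDefEq.respectTransparency false
set_option backward.isDefEq.respectTransparency.types false

universe u

open CategoryTheory CategoryTheory.Limits AlgebraicGeometry Opposite

namespace K894.LocQ

open K894.GoodP

variable {S : Scheme.{u}} {𝒳 𝒴 : AlgSt.Cat S}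

theorem locQ_iff {P : MorphismProperty Scheme.{u}} (hP : Good S P) (hP' : AlgSp.IsSmoothLocalST (S := S) (AlgSp.LocP P))
    (h𝒳 : AlgSt.IsAlgStack Scheme.fppfPrecoverage 𝒳)
    (h𝒴 : AlgSt.IsAlgStack Scheme.fppfPrecoverage 𝒴) (f : 𝒳 ⥤ᵇ 𝒴) (hf : AlgSt.RepByAlgSp1 f) :
    AlgSt.LocQ (AlgSp.LocP P) f ↔ AlgSt.RepByAlgSpWith (AlgSp.LocP P) f :=
  Groth.Agent.S12993.result S _ hP' hP.bc hP.loc 𝒳 𝒴 h𝒳 h𝒴 f hf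

theorem locQ_flat_iff (h𝒳 : AlgSt.IsAlgStack Scheme.fppfPrecoverage 𝒳)
    (h𝒴 : AlgSt.IsAlgStack Scheme.fppfPrecoverage 𝒴) (f : 𝒳 ⥤ᵇ 𝒴) (hf : AlgSt.RepByAlgSp1 f) :
    AlgSt.LocQ (AlgSp.LocP @Flat) f ↔ AlgSt.RepByAlgSpWith (AlgSp.LocP @Flat) f :=
  locQ_iff (good_flat S) K894.SmST.isSmoothLocalST_flat h𝒳 h𝒴 f hf

theorem locQ_lfp_iff (h𝒳 : AlgSt.IsAlgStack Scheme.fppfPrecoverage 𝒳)
    (h𝒴 : AlgSt.IsAlgStack Scheme.fppfPrecoverage 𝒴) (f : 𝒳 ⥤ᵇ 𝒴) (hf : AlgSt.RepByAlgSp1 f) :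
    AlgSt.LocQ (AlgSp.LocP @LocallyOfFinitePresentation) f ↔
      AlgSt.RepByAlgSpWith (AlgSp.LocP @LocallyOfFinitePresentation) f :=
  locQ_iff (good_lfp S) K894.SmST.isSmoothLocalST_lfp h𝒳 h𝒴 f hf

theorem locQ_flat (h𝒳 : AlgSt.IsAlgStack Scheme.fppfPrecoverage 𝒳)
    (h𝒴 : AlgSt.IsAlgStack Scheme.fppfPrecoverage 𝒴) (f : 𝒳 ⥤ᵇ 𝒴)
    (hf : AlgSt.RepByAlgSpWith (AlgSp.LocP @Flat) f) : AlgSt.LocQ (AlgSp.LocP @Flat) f :=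
  (locQ_flat_iff h𝒳 h𝒴 f (K735.Rep.repByAlgSp1_of_with hf)).2 hf

theorem locQ_lfp (h𝒳 : AlgSt.IsAlgStack Scheme.fppfPrecoverage 𝒳)
    (h𝒴 : AlgSt.IsAlgStack Scheme.fppfPrecoverage 𝒴) (f : 𝒳 ⥤ᵇ 𝒴)
    (hf : AlgSt.RepByAlgSpWith (AlgSp.LocP @LocallyOfFinitePresentation) f) :
    AlgSt.LocQ (AlgSp.LocP @LocallyOfFinitePresentation) f :=
  (locQ_lfp_iff h𝒳 h𝒴 f (K735.Rep.repByAlgSp1_of_with hf)).2 hf

end K894.LocQ
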