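import Groth.Agent.AlgSt.K742.EvQ3
import Groth.Agent.AlgSt.K734.FpAlg
import Groth.Agent.AlgSt.K735.Pts

/-!
# `LocQ` and surjectivity for maps between 2-fibre products (helper894)
-/

set_option autoImplicit false
set_option backward.isDefEq.respectTransparency false
set_option backward.isDefEq.respectTransparency.types false

universe u

open CategoryTheory CategoryTheory.Limits AlgebraicGeometry Opposite K735.Fib K735.Fp K735.Rep K735.Pts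

namespace K894.LocQ

open K742

variable {S : Scheme.{u}} {𝒳 𝒴 𝒵 𝒲 : AlgSt.Cat S} {P : MorphismProperty Scheme.{u}}

theorem locQ_comp (hP : NiceP P) (h𝒳 : AlgSt.IsAlgStack Scheme.fppfPrecoverage 𝒳)
    (h𝒴 : AlgSt.IsAlgStack Scheme.fppfPrecoverage 𝒴) (h𝒵 : AlgSt.IsAlgStack Scheme.fppfPrecoverage 𝒵)
    (f : 𝒳 ⥤ᵇ 𝒴) (g : 𝒴 ⥤ᵇ 𝒵) (hf : AlgSt.LocQ (AlgSp.LocP P) f) (hg : AlgSt.LocQ (AlgSp.LocP P) g) :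
    AlgSt.LocQ (AlgSp.LocP P) (BasedFunctor.comp f g) :=
  K742.EvQ.locQ_comp hP h𝒳.isStack.1 h𝒴.isStack.1 h𝒵.isStack.1 h𝒳.atlas h𝒴.atlas h𝒵.atlas f g hf hg

theorem locQ_equiv (hP : NiceP P) (h𝒳 : AlgSt.IsAlgStack Scheme.fppfPrecoverage 𝒳)
    (h𝒴 : AlgSt.IsAlgStack Scheme.fppfPrecoverage 𝒴)
    (f : 𝒳 ⥤ᵇ 𝒴) (hf : FibCat.IsEquivOver f) : AlgSt.LocQ (AlgSp.LocP P) f :=
  K742.EvQ.locQ_of_rep hP h𝒳.isStack.1 h𝒴.isStack.1 h𝒳.atlas h𝒴.atlas f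
    (hP.of_smooth (K742.Chain.smooth_of_isEquivOver hf))

theorem locQ_fpFst (hP : NiceP P) (h𝒳 : AlgSt.IsAlgStack Scheme.fppfPrecoverage 𝒳)
    (h𝒴 : AlgSt.IsAlgStack Scheme.fppfPrecoverage 𝒴) (h𝒵 : AlgSt.IsAlgStack Scheme.fppfPrecoverage 𝒵)
    (g : 𝒵 ⥤ᵇ 𝒴) (f : 𝒳 ⥤ᵇ 𝒴) (hf : AlgSt.LocQ (AlgSp.LocP P) f) :
    AlgSt.LocQ (AlgSp.LocP P) (FibCat.fpFst g f) :=
  K742.EvQ.locQ_fpFst hP h𝒳.isStack.1 h𝒴.isStack.1 h𝒵.isStack.1 h𝒵.atlas f g hf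

theorem locQ_fpSnd (hP : NiceP P) (h𝒳 : AlgSt.IsAlgStack Scheme.fppfPrecoverage 𝒳)
    (h𝒴 : AlgSt.IsAlgStack Scheme.fppfPrecoverage 𝒴) (h𝒵 : AlgSt.IsAlgStack Scheme.fppfPrecoverage 𝒵)
    (f : 𝒳 ⥤ᵇ 𝒴) (g : 𝒵 ⥤ᵇ 𝒴) (hf : AlgSt.LocQ (AlgSp.LocP P) f) :
    AlgSt.LocQ (AlgSp.LocP P) (FibCat.fpSnd f g) :=
  locQ_comp hP (K742.QC.isAlgStack_fp h𝒳 h𝒵 h𝒴 f g) (K742.QC.isAlgStack_fp h𝒵 h𝒳 h𝒴 g f) h𝒵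
    (K734.Fib.fpSwap f g) (FibCat.fpFst g f)
    (locQ_equiv hP (K742.QC.isAlgStack_fp h𝒳 h𝒵 h𝒴 f g) (K742.QC.isAlgStack_fp h𝒵 h𝒳 h𝒴 g f) _
      (K734.Fib.isEquivOver_fpSwap f g)) (locQ_fpFst hP h𝒳 h𝒴 h𝒵 g f hf)

def swapSwap (F : 𝒳 ⥤ᵇ 𝒵) (G : 𝒴 ⥤ᵇ 𝒵) :
    BasedFunctor.comp (K734.Fib.fpSwap F G) (K734.Fib.fpSwap G F) ≅ BasedFunctor.id (FibCat.fp F G) :=
  K734.Fib.liftExt (Iso.refl _) (Iso.refl _) (fun x => by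
      simp only [K734.Fib.refl_app, Iso.refl_hom]
      erw [F.map_id, G.map_id]
      simp only [Category.id_comp, Category.comp_id]
      rfl)

section Pre

variable {𝒰 : AlgSt.Cat S} (x : 𝒰 ⥤ᵇ 𝒳) (f : 𝒳 ⥤ᵇ 𝒵) (g : 𝒴 ⥤ᵇ 𝒵)

/-- `fp (x ⋙ f) g ⟶ fp f g` is a base change of `x`. -/
theorem locQ_fpPreL (hP : NiceP P) (h𝒰 : AlgSt.IsAlgStack Scheme.fppfPrecoverage 𝒰)
    (h𝒳 : AlgSt.IsAlgStack Scheme.fppfPrecoverage 𝒳)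
    (h₁ : AlgSt.IsAlgStack Scheme.fppfPrecoverage (FibCat.fp f g))
    (h₂ : AlgSt.IsAlgStack Scheme.fppfPrecoverage (FibCat.fp (BasedFunctor.comp x f) g))
    (hx : AlgSt.LocQ (AlgSp.LocP P) x) :
    AlgSt.LocQ (AlgSp.LocP P) (K734.Fib.fpPreL x f g) := by
  have h₃ : AlgSt.IsAlgStack Scheme.fppfPrecoverage (FibCat.fp x (FibCat.fpFst f g)) :=
    K742.QC.isAlgStack_fp h𝒰 h₁ h𝒳 x (FibCat.fpFst f g)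
  exact K742.EvQ.locQ_iso (K734.Rep.preLIso x f g).symm (locQ_comp hP h₂ h₃ h₁ (K734.Fib.fpPaste x f g) _
    (locQ_equiv hP h₂ h₃ _ (K734.Fib.isEquivOver_fpPaste x f g)) (locQ_fpSnd hP h𝒰 h𝒳 h₁ x (FibCat.fpFst f g) hx))

/-- `fp g (x ⋙ f) ⟶ fp g f` is a base change of `x`. -/
theorem locQ_fpPreR (hP : NiceP P) (h𝒰 : AlgSt.IsAlgStack Scheme.fppfPrecoverage 𝒰)
    (h𝒳 : AlgSt.IsAlgStack Scheme.fppfPrecoverage 𝒳)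
    (h₁ : AlgSt.IsAlgStack Scheme.fppfPrecoverage (FibCat.fp g f))
    (h₂ : AlgSt.IsAlgStack Scheme.fppfPrecoverage (FibCat.fp g (BasedFunctor.comp x f)))
    (h₁' : AlgSt.IsAlgStack Scheme.fppfPrecoverage (FibCat.fp f g))
    (h₂' : AlgSt.IsAlgStack Scheme.fppfPrecoverage (FibCat.fp (BasedFunctor.comp x f) g))
    (hx : AlgSt.LocQ (AlgSp.LocP P) x) :
    AlgSt.LocQ (AlgSp.LocP P) (K734.Fib.fpPreR g x f) := by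
  have h3 : AlgSt.LocQ (AlgSp.LocP P) (BasedFunctor.comp (BasedFunctor.comp (K734.Fib.fpSwap g (BasedFunctor.comp x f))
      (K734.Fib.fpPreL x f g)) (K734.Fib.fpSwap f g)) :=
    locQ_comp hP h₂ h₁' h₁ _ _ (locQ_comp hP h₂ h₂' h₁' _ _ (locQ_equiv hP h₂ h₂' _ (K734.Fib.isEquivOver_fpSwap _ _))
      (locQ_fpPreL x f g hP h𝒰 h𝒳 h₁' h₂' hx)) (locQ_equiv hP h₁' h₁ _ (K734.Fib.isEquivOver_fpSwap _ _))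
  exact K742.EvQ.locQ_iso ((whiskerRightIso (K734.Rep.preRIso x g f).symm (K734.Fib.fpSwap f g)) ≪≫
    (whiskerLeftIso (K734.Fib.fpPreR g x f) (K894.LocQ.swapSwap g f))) h3

end Pre

/-! ### Surjectivity -/

theorem surj_comp (f : 𝒳 ⥤ᵇ 𝒴) (g : 𝒴 ⥤ᵇ 𝒵) (hf : AlgSt.IsSurjective f) (hg : AlgSt.IsSurjective g) :
    AlgSt.IsSurjective (BasedFunctor.comp f g) := by
  intro z
  obtain ⟨y, rfl⟩ := hg z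
  obtain ⟨x, rfl⟩ := hf y
  exact ⟨x, map_comp f g x⟩

theorem surj_of_iso {f g : 𝒳 ⥤ᵇ 𝒴} (e : f ≅ g) (hf : AlgSt.IsSurjective f) : AlgSt.IsSurjective g := by
  intro z
  obtain ⟨y, rfl⟩ := hf z
  exact ⟨y, (map_congr e y).symm⟩

theorem surj_equiv (f : 𝒳 ⥤ᵇ 𝒴) (hf : FibCat.IsEquivOver f) : AlgSt.IsSurjective f :=
  (map_bijective_of_isEquivOver hf).2

theorem surj_fpFst (h𝒳 : FibCat.IsFibGrpd 𝒳.p) (h𝒴 : FibCat.IsFibGrpd 𝒴.p) (h𝒵 : FibCat.IsFibGrpd 𝒵.p)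
    (g : 𝒵 ⥤ᵇ 𝒴) (f : 𝒳 ⥤ᵇ 𝒴) (hf : AlgSt.IsSurjective f) : AlgSt.IsSurjective (FibCat.fpFst g f) :=
  surjective_fpFst h𝒳 h𝒵 h𝒴 g f hf

theorem surj_fpSnd (h𝒳 : FibCat.IsFibGrpd 𝒳.p) (h𝒴 : FibCat.IsFibGrpd 𝒴.p) (h𝒵 : FibCat.IsFibGrpd 𝒵.p)
    (f : 𝒳 ⥤ᵇ 𝒴) (g : 𝒵 ⥤ᵇ 𝒴) (hf : AlgSt.IsSurjective f) : AlgSt.IsSurjective (FibCat.fpSnd f g) :=
  surj_comp (K734.Fib.fpSwap f g) (FibCat.fpFst g f) (surj_equiv _ (K734.Fib.isEquivOver_fpSwap f g))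
    (surj_fpFst h𝒳 h𝒴 h𝒵 g f hf)

theorem surj_fpPreL {𝒰 : AlgSt.Cat S} (x : 𝒰 ⥤ᵇ 𝒳) (f : 𝒳 ⥤ᵇ 𝒵) (g : 𝒴 ⥤ᵇ 𝒵) (h𝒰 : FibCat.IsFibGrpd 𝒰.p)
    (h𝒳 : FibCat.IsFibGrpd 𝒳.p) (h₁ : FibCat.IsFibGrpd (FibCat.fp f g).p)
    (hx : AlgSt.IsSurjective x) : AlgSt.IsSurjective (K734.Fib.fpPreL x f g) :=
  surj_of_iso (K734.Rep.preLIso x f g).symm (surj_comp _ _ (surj_equiv _ (K734.Fib.isEquivOver_fpPaste x f g))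
    (surj_fpSnd h𝒰 h𝒳 h₁ x (FibCat.fpFst f g) hx))

theorem surj_fpPreR {𝒰 : AlgSt.Cat S} (x : 𝒰 ⥤ᵇ 𝒳) (f : 𝒳 ⥤ᵇ 𝒵) (g : 𝒴 ⥤ᵇ 𝒵) (h𝒰 : FibCat.IsFibGrpd 𝒰.p)
    (h𝒳 : FibCat.IsFibGrpd 𝒳.p) (h₁ : FibCat.IsFibGrpd (FibCat.fp f g).p)
    (hx : AlgSt.IsSurjective x) : AlgSt.IsSurjective (K734.Fib.fpPreR g x f) :=
  surj_of_iso ((whiskerRightIso (K734.Rep.preRIso x g f).symm (K734.Fib.fpSwap f g)) ≪≫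
    (whiskerLeftIso (K734.Fib.fpPreR g x f) (K894.LocQ.swapSwap g f)))
    (surj_comp _ _ (surj_comp _ _ (surj_equiv _ (K734.Fib.isEquivOver_fpSwap _ _)) (surj_fpPreL x f g h𝒰 h𝒳 h₁ hx))
      (surj_equiv _ (K734.Fib.isEquivOver_fpSwap _ _)))

end K894.LocQ
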