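import Groth.Agent.Gerb.K894.Ifc2
import Groth.Agent.AlgSt.K735.PtsSp
import Groth.Agent.AlgSt.K740.SpDM
import Groth.Agent.AlgSt.K741.SpProp
import Groth.Agent.S16869
import Groth.Agent.S10370
import Groth.Agent.AlgSp.K619.ZarDec

/-!
# Residual gerbes of gerbes (helper894)
-/

set_option autoImplicit false
set_option backward.isDefEq.respectTransparency false
set_option backward.isDefEq.respectTransparency.types false

universe v₄ u₄ v₃ u₃ v₂ u₂ v u

open CategoryTheory CategoryTheory.Limits AlgebraicGeometry Opposite K735.Fib K735.Fp K735.Rep K735.Pts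

namespace K894.ResG

variable {S : Scheme.{u}} {𝒳 : AlgSt.Cat S}

theorem isMono_ofSpMap {F G : AlgSp.Sp S} (hF : AlgSp.IsAlgSpace F) (hG : AlgSp.IsAlgSpace G) (m : F ⟶ G) [Mono m] :
    AlgSt.IsMono (AlgSt.ofSpMap m) := by
  refine K740.SpDM.repByAlgSpWith_ofSpMap m fun V η => ?_
  have sq := IsPullback.of_hasPullback η m
  refine ⟨_, _, _, K741.isAlgSpace_bc (AlgSp.IsAlgSpace.yon_obj V) hF hG sq, sq, ?_⟩
  exact (inferInstance : Mono (pullback.fst η m))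

/-- A functor with diagonal surjective on points is injective on points. -/
theorem injective_of_surjective_diag {𝒳 : BasedCategory.{v₂, u₂} (Over S)} {𝒴 : BasedCategory.{v₃, u₃} (Over S)}
    (h𝒳 : FibCat.IsFibGrpd 𝒳.p) (h𝒴 : FibCat.IsFibGrpd 𝒴.p) (f : 𝒳 ⥤ᵇ 𝒴)
    (hf : Function.Surjective (AlgSt.Points.map (FibCat.diag f))) : Function.Injective (AlgSt.Points.map f) := by
  intro x₁ x₂ h
  have h1 := K735.Pts.injective_fpFst_of_surjective_diag h𝒳 h𝒴 h𝒴 (BasedFunctor.id 𝒴) f hf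
  let L : 𝒳 ⥤ᵇ FibCat.fp (BasedFunctor.id 𝒴) f := FibCat.fpLift f (BasedFunctor.id 𝒳) (Iso.refl _)
  have e1 : ∀ x, AlgSt.Points.map (FibCat.fpFst (BasedFunctor.id 𝒴) f) (AlgSt.Points.map L x) = AlgSt.Points.map f x :=
    fun x => by
      rw [← K735.Pts.map_comp]
      rfl
  have e2 : ∀ x, AlgSt.Points.map (FibCat.fpSnd (BasedFunctor.id 𝒴) f) (AlgSt.Points.map L x) = x := fun x => by
    rw [← K735.Pts.map_comp]
    exact K735.Pts.map_id x
  have e3 := h1 ((e1 x₁).trans (h.trans (e1 x₂).symm))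
  rw [← e2 x₁, e3, e2]

/-- A gerbe of algebraic stacks is injective on points. -/
theorem injective_of_gerbe {𝒳 𝒴 : AlgSt.Cat S} (h𝒳 : AlgSt.IsAlgStack Scheme.fppfPrecoverage 𝒳)
    (h𝒴 : AlgSt.IsAlgStack Scheme.fppfPrecoverage 𝒴) (f : 𝒳 ⥤ᵇ 𝒴)
    (hf : Gerb.IsGerbeOver (QuotSh.J Scheme.fppfPrecoverage S) f) : Function.Injective (AlgSt.Points.map f) :=
  injective_of_surjective_diag h𝒳.isStack.1 h𝒴.isStack.1 f (K894.Diag.surjective_diag_pts h𝒳 h𝒴 f hf)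

/-- The fibre of a gerbe over a residual space. -/
theorem exists_resGerbe (h𝒳 : AlgSt.IsAlgStack Scheme.fppfPrecoverage 𝒳)
    (X : AlgSp.Space S) (π : 𝒳 ⥤ᵇ AlgSt.ofSp X.obj)
    (hπ : Gerb.IsGerbeOver (QuotSh.J Scheme.fppfPrecoverage S) π) (x : AlgSt.Points 𝒳) :
    ∃ (Z : AlgSp.Space S) (m : Z ⟶ X), Mono m.hom ∧
      AlgSt.IsAlgStack Scheme.fppfPrecoverage (FibCat.fp (AlgSt.ofSpMap m.hom) π) ∧
      AlgSt.IsMono (FibCat.fpSnd (AlgSt.ofSpMap m.hom) π) ∧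
      Nonempty (AlgSt.Points (FibCat.fp (AlgSt.ofSpMap m.hom) π)) ∧
      Subsingleton (AlgSt.Points (FibCat.fp (AlgSt.ofSpMap m.hom) π)) ∧
      (∀ z, AlgSt.Points.map (FibCat.fpSnd (AlgSt.ofSpMap m.hom) π) z = x) ∧
      ∃ (k : Type u) (_ : Field k) (str : Spec (CommRingCat.of k) ⟶ S) (p : (AlgSp.yon S).obj (Over.mk str) ⟶ Z.obj),
        AlgSp.LocP @LocallyOfFinitePresentation p ∧ AlgSp.LocP @Flat p ∧ AlgSp.IsSurjectiveMor p := by
  have hX := K894.Ifc.isAlgStack_ofSp X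
  obtain ⟨Z, m, hm, hr, hk⟩ := Groth.Agent.S10370.result X (K735.PtsSp.ptsEquiv X.obj (AlgSt.Points.map π x))
  have hZ := K894.Ifc.isAlgStack_ofSp Z
  have i1 := h𝒳.isStack.1
  have i2 := hX.isStack.1
  have i3 := hZ.isStack.1
  have hW := K894.Ifc.isAlgStack_fp hZ h𝒳 hX (AlgSt.ofSpMap m.hom) π
  have hg : Gerb.IsGerbeOver (QuotSh.J Scheme.fppfPrecoverage S) (FibCat.fpFst (AlgSt.ofSpMap m.hom) π) :=
    K894.Formal.isGerbeOver_fpFst _ hπ
  have hinj : Function.Injective (AlgSt.Points.map π) := injective_of_gerbe h𝒳 hX π hπ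
  have hinj' : Function.Injective (AlgSt.Points.map (FibCat.fpFst (AlgSt.ofSpMap m.hom) π)) :=
    injective_of_gerbe hW hZ _ hg
  have hmi : Function.Injective (AlgSp.Points.map m.hom) := K619.ZarDec.map_injective_of_mono m.hom
  have hmr : ∀ z, AlgSp.Points.map m.hom z = K735.PtsSp.ptsEquiv X.obj (AlgSt.Points.map π x) := fun z => by
    have : AlgSp.Points.map m.hom z ∈ Set.range (AlgSp.Points.map m.hom) := ⟨z, rfl⟩
    rw [hr] at this
    exact this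
  have hmr' : ∀ z, AlgSt.Points.map (AlgSt.ofSpMap m.hom) z = AlgSt.Points.map π x := fun z => by
    apply (K735.PtsSp.ptsEquiv X.obj).injective
    rw [K735.PtsSp.ptsEquiv_map, hmr]
  have hsn : ∀ z, AlgSt.Points.map (FibCat.fpSnd (AlgSt.ofSpMap m.hom) π) z = x := fun z => by
    apply hinj
    rw [← hmr' (AlgSt.Points.map (FibCat.fpFst (AlgSt.ofSpMap m.hom) π) z), ← K735.Pts.map_comp, ← K735.Pts.map_comp]
    exact (K735.Pts.map_congr (FibCat.fpIso (AlgSt.ofSpMap m.hom) π) z).symm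
  have hmono := isMono_ofSpMap Z.property X.property m.hom
  refine ⟨Z, m, hm, hW, K734.Rep.repByAlgSpWith_fpSnd _ _ _ hmono, ?_, ⟨?_⟩, hsn, hk⟩
  · have h1 : K735.PtsSp.ptsEquiv X.obj (AlgSt.Points.map π x) ∈ Set.range (AlgSp.Points.map m.hom) := by
      rw [hr]
      rfl
    obtain ⟨z', -⟩ := h1
    obtain ⟨w, -, -⟩ := K735.Pts.exists_fp i1 i3 i2 (AlgSt.ofSpMap m.hom) π ((K735.PtsSp.ptsEquiv Z.obj).symm z') x
      (hmr' _)
    exact ⟨w⟩
  · intro a b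
    apply hinj'
    apply (K735.PtsSp.ptsEquiv Z.obj).injective
    apply hmi
    rw [hmr, hmr]

end K894.ResG
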