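import Groth.Agent.Gerb.K894.IsoSpB
import Groth.Agent.Gerb.K894.ResG
import Groth.Agent.Gerb.K893.Singleton
import Groth.Agent.AlgSt.K738.LftDiag
import Groth.Agent.S10561
import Groth.Agent.S10562

/-!
# The inertia of a one-point reduced locally Noetherian stack (helper894)
-/

set_option autoImplicit false
set_option backward.isDefEq.respectTransparency false
set_option backward.isDefEq.respectTransparency.types false

universe w₁ w₂ v₄ u₄ v₃ u₃ v₂ u₂ v u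

open CategoryTheory CategoryTheory.Limits AlgebraicGeometry Opposite K735.Fib K735.Fp K735.Rep K735.Pts

namespace K894.OnePt

open K894.GoodP K894.BCRep K594.Cover K894.Loc K894.LocSurj K894.Formal K894.GerbeQ K894.Core

variable {S : Scheme.{u}}

/-- `RepByAlgSpWith (LocP P)` can be checked after base change along a locally essentially surjective functor. -/
theorem repByAlgSpWith_of_locSurj {𝒱 : BasedCategory.{v₂, u₂} (Over S)} {𝒲 : BasedCategory.{v₃, u₃} (Over S)}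
    {𝒵 : BasedCategory.{v₄, u₄} (Over S)} {P : MorphismProperty Scheme.{u}} (hP : Good S P)
    (h𝒱 : FibCat.IsFibGrpd 𝒱.p) (h𝒵 : FibCat.IsFibGrpd 𝒵.p) {f : 𝒲 ⥤ᵇ 𝒵} (hf : AlgSt.RepByAlgSp1 f)
    {z : 𝒱 ⥤ᵇ 𝒵} (hz : Gerb.LocSurjObj (QuotSh.J Scheme.fppfPrecoverage S) z)
    (h : AlgSt.RepByAlgSpWith (AlgSp.LocP P) (FibCat.fpFst z f)) : AlgSt.RepByAlgSpWith (AlgSp.LocP P) f := by
  intro U y
  have i1 : FibCat.IsFibGrpd 𝒱.p := h𝒱
  have i2 : FibCat.IsFibGrpd 𝒵.p := h𝒵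
  obtain ⟨R, hR, hl⟩ := exists_lift_of_locSurjObj hz y
  refine repOver_fp_of_sieve hP.loc hP.bc f y (hf U y) hR fun T s hs => ?_
  obtain ⟨z', ⟨e⟩⟩ := hl s hs
  refine repOver_congr e _ ?_
  exact RepOver.of_equiv' (w := FibCat.fpFst (BasedFunctor.comp z' z) f) (w' := FibCat.fpFst z' (FibCat.fpFst z f))
    (h T z') (K734.Fib.fpPaste z' z f) (K734.Fib.isEquivOver_fpPaste z' z f) (Iso.refl _)

/-- The inertia of an algebraic stack is locally of finite type. -/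
theorem lft_inertia {𝒳 : AlgSt.Cat S} (h𝒳 : AlgSt.IsAlgStack Scheme.fppfPrecoverage 𝒳) :
    AlgSt.RepByAlgSpWith (AlgSp.LocP @LocallyOfFiniteType) (FibCat.inertiaToBase (FibCat.toSelf 𝒳)) :=
  (K894.Inertia.inertia_isCart (FibCat.toSelf 𝒳)).repByAlgSpWith (K738.Lft.repByAlgSpWith_lft_diag_toSelf h𝒳)

/-- The inertia of an algebraic stack with a flat, locally finitely presented and surjective field-valued point is flat
and locally of finite presentation. -/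
theorem inertia_of_field {𝒵 : AlgSt.Cat S} (h𝒵 : AlgSt.IsAlgStack Scheme.fppfPrecoverage 𝒵) {k : Type u} [Field k]
    {a : Spec (CommRingCat.of k) ⟶ S} (z : FibCat.overCat (Over.mk a) ⥤ᵇ 𝒵)
    (h₁ : AlgSt.RepByAlgSpWith (AlgSp.LocP @LocallyOfFinitePresentation) z)
    (h₂ : AlgSt.RepByAlgSpWith AlgSp.IsSurjectiveMor z) (h₃ : AlgSt.RepByAlgSpWith (AlgSp.LocP @Flat) z) :
    AlgSt.RepByAlgSpWith (AlgSp.LocP @Flat) (FibCat.inertiaToBase (FibCat.toSelf 𝒵)) ∧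
    AlgSt.RepByAlgSpWith (AlgSp.LocP @LocallyOfFinitePresentation) (FibCat.inertiaToBase (FibCat.toSelf 𝒵)) := by
  have i1 : FibCat.IsFibGrpd 𝒵.p := h𝒵.isStack.1
  have i2 : FibCat.IsFibGrpd (FibCat.overCat (Over.mk a)).p := isFibGrpd_overCat _
  have hz : Gerb.LocSurjObj (QuotSh.J Scheme.fppfPrecoverage S) z := locSurjObj_of_rep z h₃ h₁ h₂
  have hI := lft_inertia h𝒵
  have hI1 := repByAlgSp1_of_with hI
  obtain ⟨F, e, he, hF⟩ := hI (Over.mk a) z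
  constructor
  · exact repByAlgSpWith_of_locSurj (good_flat S) i2 i1 hI1 hz (repByAlgSpWith_of_repOver (good_flat S).bc
      ⟨F, e, he, K893.FieldPt.locP_flat_to_field _⟩)
  · have : IsLocallyNoetherian (Over.mk a).left :=
      inferInstanceAs (IsLocallyNoetherian (Spec (CommRingCat.of k)))
    exact repByAlgSpWith_of_locSurj (good_lfp S) i2 i1 hI1 hz (repByAlgSpWith_of_repOver (good_lfp S).bc
      ⟨F, e, he, K893.Singleton.locP_lfp_of_lft _ hF⟩)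

/-- An algebraic stack with flat and locally finitely presented inertia is a gerbe over an algebraic space. -/
theorem isAlgGerbe_of_inertia {𝒳 : AlgSt.Cat S} (h𝒳 : AlgSt.IsAlgStack Scheme.fppfPrecoverage 𝒳)
    (hI₁ : AlgSt.RepByAlgSpWith (AlgSp.LocP @Flat) (FibCat.inertiaToBase (FibCat.toSelf 𝒳)))
    (hI₂ : AlgSt.RepByAlgSpWith (AlgSp.LocP @LocallyOfFinitePresentation) (FibCat.inertiaToBase (FibCat.toSelf 𝒳))) :
    Gerb.IsAlgGerbe Scheme.fppfPrecoverage 𝒳 := by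
  have i1 : FibCat.IsFibGrpd 𝒳.p := h𝒳.isStack.1
  let η := toSheafify (AlgSp.J S) (Gerb.isoClPsh 𝒳)
  let F : AlgSp.Sp S := (presheafToSheaf (AlgSp.J S) (Type (u + 1))).obj (Gerb.isoClPsh 𝒳)
  let π : 𝒳 ⥤ᵇ AlgSt.ofSp F := K894.IsoSh.toPsh η
  have hπ : Gerb.IsGerbeOver (QuotSh.J Scheme.fppfPrecoverage S) π := K894.IsoSh.isGerbeOver_toPsh (AlgSp.J S) η
  exact ⟨⟨F, K894.IsoSp.isAlgSpace_of_gerbe h𝒳 π hπ hI₁ hI₂⟩, π, hπ⟩

/-- A gerbe with a smooth atlas by a scheme with a property descending along flat, locally finitely presented, surjective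
morphisms. -/
theorem reduced_noeth_of_gerbe {𝒳 : AlgSt.Cat S} {X : AlgSp.Space S} (h𝒳 : AlgSt.IsAlgStack Scheme.fppfPrecoverage 𝒳)
    (π : 𝒳 ⥤ᵇ AlgSt.ofSp X.obj)
    (hπ : Gerb.IsGerbeOver (QuotSh.J Scheme.fppfPrecoverage S) π)
    (hI₁ : AlgSt.RepByAlgSpWith (AlgSp.LocP @Flat) (FibCat.inertiaToBase (FibCat.toSelf 𝒳)))
    (hI₂ : AlgSt.RepByAlgSpWith (AlgSp.LocP @LocallyOfFinitePresentation) (FibCat.inertiaToBase (FibCat.toSelf 𝒳))) :
    (AlgSt.SmoothLocally (fun T => IsReduced T) 𝒳 → AlgSp.EtaleLocally (fun T => IsReduced T) X.obj) ∧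
    (AlgSt.SmoothLocally (fun T => IsLocallyNoetherian T) 𝒳 → AlgSp.IsLocNoethSp X.obj) := by
  obtain ⟨V, v, hv₁, hv₂⟩ := h𝒳.atlas
  obtain ⟨q, -, hq₁, hq₂, hq₃⟩ := K894.IsoSp.exists_cover_of_gerbe h𝒳 π hπ hI₁ hI₂ v hv₁ hv₂
  have hsurj : ∀ (P : Scheme.{u} → Prop), P V.left → AlgSp.EtaleLocally P ((AlgSp.yon S).obj V) := fun P hP =>
    ⟨V, 𝟙 _, AlgSp.repWith_id _ _, AlgSp.repWith_id _ _, hP⟩
  constructor
  · intro h
    exact Groth.Agent.S10561.result (X := ⟨_, AlgSp.IsAlgSpace.yon_obj V⟩) (Y := X) (ObjectProperty.homMk q) hq₂ hq₁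
      (hsurj _ (h V v hv₁))
  · intro h
    exact Groth.Agent.S10562.result (X := ⟨_, AlgSp.IsAlgSpace.yon_obj V⟩) (Y := X) (ObjectProperty.homMk q) hq₃ hq₂ hq₁
      (hsurj _ (h V v hv₁))

/-- Points of a gerbe over an algebraic space. -/
theorem points_bijective_of_gerbe {𝒳 : AlgSt.Cat S} {X : AlgSp.Space S} (h𝒳 : AlgSt.IsAlgStack Scheme.fppfPrecoverage 𝒳)
    (π : 𝒳 ⥤ᵇ AlgSt.ofSp X.obj)
    (hπ : Gerb.IsGerbeOver (QuotSh.J Scheme.fppfPrecoverage S) π) :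
    Function.Bijective (fun x => K735.PtsSp.ptsEquiv X.obj (AlgSt.Points.map π x)) := by
  have i1 := h𝒳.isStack.1
  have i2 := (K894.Ifc.isAlgStack_ofSp X).isStack.1
  exact (K735.PtsSp.ptsEquiv X.obj).bijective.comp
    ⟨K894.ResG.injective_of_gerbe h𝒳 (K894.Ifc.isAlgStack_ofSp X) π hπ, K894.Surj.isSurjective_of_locSurjObj _ hπ.1⟩

end K894.OnePt
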