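import Groth.Agent.Gerb.K894.RetractSp
import Groth.Agent.AlgSp.K597.EtLoc
import Groth.Agent.S10526
import Groth.Agent.S10527
import Groth.Agent.S10530
import Groth.Agent.S10505
import Groth.Agent.S10557

/-!
# The properties flat, locally of finite type, locally of finite presentation (helper894)

`GoodP P`: stable under base change and composition, fppf local on the base, implied by smooth, descends along split
epimorphisms on the source.
-/

set_option autoImplicit false
set_option backward.isDefEq.respectTransparency false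
set_option backward.isDefEq.respectTransparency.types false

universe u

open CategoryTheory CategoryTheory.Limits AlgebraicGeometry Opposite

namespace K894.GoodP

variable {S : Scheme.{u}}

/-- Stable under base change (squares with algebraic corners). -/
def BC (P : MorphismProperty (AlgSp.Sp S)) : Prop :=
  ∀ ⦃X₁ Y₁ X₂ Y₂ : AlgSp.Sp S⦄, AlgSp.IsAlgSpace X₁ → AlgSp.IsAlgSpace Y₁ → AlgSp.IsAlgSpace X₂ →
      AlgSp.IsAlgSpace Y₂ → ∀ (a : X₁ ⟶ Y₁) (b : Y₂ ⟶ Y₁) (a' : X₂ ⟶ Y₂) (b' : X₂ ⟶ X₁),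
      IsPullback b' a' a b → P a → P a'

/-- Stable under composition (algebraic spaces). -/
def Comp (P : MorphismProperty (AlgSp.Sp S)) : Prop :=
  ∀ ⦃X Y Z : AlgSp.Sp S⦄, AlgSp.IsAlgSpace X → AlgSp.IsAlgSpace Y → AlgSp.IsAlgSpace Z →
      ∀ (a : X ⟶ Y) (b : Y ⟶ Z), P a → P b → P (a ≫ b)

theorem isLocalOnBase_fppf_of_fpqc {P : MorphismProperty (AlgSp.Sp S)}
    (h : AlgSp.IsLocalOnBase (AlgSp.IsFpqcCover (S := S)) P) : AlgSp.IsLocalOnBase AlgSp.IsFppfCover P := by
  intro ι Y Yi g hY hYi hg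
  exact h Yi g hY hYi (Groth.Agent.S10505.result ⟨Y, hY⟩ (fun i => ⟨Yi i, hYi i⟩)
    (fun i => ObjectProperty.homMk (g i)) hg)

/-- The formal properties used for gerbes. -/
structure Good (S : Scheme.{u}) (P : MorphismProperty Scheme.{u}) : Prop where
  bc : BC (S := S) (AlgSp.LocP P)
  comp : Comp (S := S) (AlgSp.LocP P)
  loc : AlgSp.IsLocalOnBase AlgSp.IsFppfCover (AlgSp.LocP (S := S) P)
  retr : K894.RetractSp.RetrStable (S := S) (AlgSp.LocP P)
  smooth : @Smooth ≤ P

theorem isLocallySurjective_of_split {F G : AlgSp.Sp S} (ι : F ⟶ G) (ρ : G ⟶ F) (h : ι ≫ ρ = 𝟙 F) :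
    Sheaf.IsLocallySurjective ρ := by
  refine ⟨fun {U} s => ?_⟩
  refine (AlgSp.J S).superset_covering (S := ⊤) ?_ ((AlgSp.J S).top_mem U)
  intro V i _
  refine ⟨ι.hom.app (op V) (F.obj.map i.op s), ?_⟩
  have h1 : ι.hom ≫ ρ.hom = 𝟙 F.obj := congrArg (fun t => t.hom) h
  have h2 := congrArg (fun t => t.app (op V) (F.obj.map i.op s)) h1
  exact h2

theorem good_of {P : MorphismProperty Scheme.{u}} (hP : K597.EtLoc P) [P.IsStableUnderBaseChange]
    [P.IsStableUnderComposition] (hloc : AlgSp.IsLocalOnBase (AlgSp.IsFpqcCover (S := S)) (AlgSp.LocP P))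
    (hretr : ∀ {X Y Z : AlgSp.Space S} (g : X ⟶ Y) (h : Y ⟶ Z), Sheaf.IsLocallySurjective g.hom →
      AlgSp.LocP P (g ≫ h).hom → AlgSp.LocP P h.hom) (hs : @Smooth ≤ P) : Good S P where
  bc X₁ Y₁ X₂ Y₂ h₁ h₂ h₃ h₄ a b a' b' sq h :=
    K597.locP_bc hP sq h₁.hasAtlas h₂.hasAtlas h₄.hasAtlas h
  comp X Y Z hX hY hZ a b ha hb := K597.locP_comp hP hX.hasAtlas hY.hasAtlas hZ.hasAtlas ha hb
  loc := isLocalOnBase_fppf_of_fpqc hloc
  retr F G T ι ρ h hF hG e hh := hretr (X := ⟨G, hG⟩) (Y := ⟨F, hF⟩) (Z := ⟨_, AlgSp.IsAlgSpace.yon_obj T⟩)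
    (ObjectProperty.homMk ρ) (ObjectProperty.homMk h) (isLocallySurjective_of_split ι ρ e) hh
  smooth := hs

theorem good_flat (S : Scheme.{u}) : Good S @Flat :=
  good_of K597.etLoc_flat (Groth.Agent.S10530.result S) (fun g h hg => (Groth.Agent.S10557.result g h hg).1)
    (fun _ _ f hf => by
      have : Smooth f := hf
      exact (inferInstance : Flat f))

theorem good_lft (S : Scheme.{u}) : Good S @LocallyOfFiniteType :=
  good_of K597.etLoc_lft (Groth.Agent.S10526.result S) (fun g h hg => (Groth.Agent.S10557.result g h hg).2.1)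
    (fun _ _ f hf => by
      have : Smooth f := hf
      exact (inferInstance : LocallyOfFiniteType f))

theorem good_lfp (S : Scheme.{u}) : Good S @LocallyOfFinitePresentation :=
  good_of K597.etLoc_lfp (Groth.Agent.S10527.result S) (fun g h hg => (Groth.Agent.S10557.result g h hg).2.2)
    (fun _ _ f hf => by
      have : Smooth f := hf
      exact (inferInstance : LocallyOfFinitePresentation f))

end K894.GoodP
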