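import Groth.Agent.Gerb.K894.LocQ2
import Groth.Agent.Gerb.K894.Ifc
import Groth.Agent.Gerb.K894.Iff
import Groth.Agent.AlgSt.K740.Inertia
import Groth.Agent.AlgSt.K738.LftDiag
import Groth.Agent.S12764
import Groth.Agent.S12985
import Groth.Agent.S13009

/-!
# Quasi-compactness of the diagonal of the target of a gerbe (helper894)
-/

set_option autoImplicit false
set_option backward.isDefEq.respectTransparency false
set_option backward.isDefEq.respectTransparency.types false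

universe u

open CategoryTheory CategoryTheory.Limits AlgebraicGeometry Opposite K735.Fib K735.Fp K735.Rep K735.Pts

namespace K894.QC

open K742 K894.LocQ

variable {S : Scheme.{u}} {𝒳 𝒴 𝒵 𝒲 : AlgSt.Cat S}

theorem comp_toSelf (f : 𝒳 ⥤ᵇ 𝒴) : BasedFunctor.comp f (FibCat.toSelf 𝒴) = FibCat.toSelf 𝒳 :=
  K738.Lft.comp_toSelf f

/-- `𝒳 ×_S 𝒳 ⟶ 𝒴 ×_S 𝒴` in two steps. -/
def cmpBIso (f : 𝒳 ⥤ᵇ 𝒴) (t : 𝒴 ⥤ᵇ 𝒵) :
    BasedFunctor.comp (K734.Fib.fpPreL f t (BasedFunctor.comp f t)) (K734.Fib.fpPreR t f t) ≅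
      K743.DiagBC.cmpB f f t :=
  K734.Fib.liftExt (Iso.refl _) (Iso.refl _) (fun x => by
    simp only [K734.Fib.refl_app, Iso.refl_hom]
    erw [t.map_id, t.map_id, Category.id_comp, Category.comp_id]
    change x.obj.iso.hom = 𝟙 _ ≫ (𝟙 _ ≫ x.obj.iso.hom ≫ 𝟙 _) ≫ 𝟙 _
    simp)

theorem isQuasiCompactMor_diag (h𝒳 : AlgSt.IsAlgStack Scheme.fppfPrecoverage 𝒳)
    (h𝒴 : AlgSt.IsAlgStack Scheme.fppfPrecoverage 𝒴) (f : 𝒳 ⥤ᵇ 𝒴)
    (hf₁ : AlgSt.IsSurjective f) (hf₂ : AlgSt.LocQ (AlgSp.LocP @Flat) f)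
    (hf₃ : AlgSt.LocQ (AlgSp.LocP @LocallyOfFinitePresentation) f) (hd : AlgSt.IsSurjective (FibCat.diag f))
    (hΔ : AlgSt.IsQuasiCompactMor Scheme.fppfPrecoverage (FibCat.diag (FibCat.toSelf 𝒳))) :
    AlgSt.IsQuasiCompactMor Scheme.fppfPrecoverage (FibCat.diag (FibCat.toSelf 𝒴)) := by
  let t := FibCat.toSelf 𝒴
  have ht : BasedFunctor.comp f t = FibCat.toSelf 𝒳 := comp_toSelf f
  have hA : AlgSt.IsAlgStack Scheme.fppfPrecoverage (FibCat.fp (BasedFunctor.comp f t) (BasedFunctor.comp f t)) := by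
    rw [ht]; exact Groth.Agent.S12764.result h𝒳 h𝒳
  have hB : AlgSt.IsAlgStack Scheme.fppfPrecoverage (FibCat.fp t (BasedFunctor.comp f t)) := by
    rw [ht]; exact Groth.Agent.S12764.result h𝒴 h𝒳
  have hB' : AlgSt.IsAlgStack Scheme.fppfPrecoverage (FibCat.fp (BasedFunctor.comp f t) t) := by
    rw [ht]; exact Groth.Agent.S12764.result h𝒳 h𝒴
  have hC : AlgSt.IsAlgStack Scheme.fppfPrecoverage (FibCat.fp t t) := Groth.Agent.S12764.result h𝒴 h𝒴
  have hD : AlgSt.IsAlgStack Scheme.fppfPrecoverage (FibCat.fp f f) := K742.QC.isAlgStack_fp h𝒳 h𝒳 h𝒴 f f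
  have hΔ' : AlgSt.IsQuasiCompactMor Scheme.fppfPrecoverage (FibCat.diag (BasedFunctor.comp f t)) := by
    rw [ht]; exact hΔ
  let z := K743.DiagBC.cmpB f f t
  have hz : ∀ {P : MorphismProperty Scheme.{u}}, NiceP P → AlgSt.LocQ (AlgSp.LocP P) f → AlgSt.LocQ (AlgSp.LocP P) z := by
    intro P hP h
    exact K742.EvQ.locQ_iso (cmpBIso f t) (locQ_comp hP hA hB hC _ _
      (locQ_fpPreL f t (BasedFunctor.comp f t) hP h𝒳 h𝒴 hB hA h) (locQ_fpPreR f t t hP h𝒳 h𝒴 hC hB hC hB' h))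
  have hzs : AlgSt.IsSurjective z :=
    surj_of_iso (cmpBIso f t) (surj_comp _ _ (surj_fpPreL f t (BasedFunctor.comp f t) h𝒳.isStack.1 h𝒴.isStack.1 hB.isStack.1 hf₁)
      (surj_fpPreR f t t h𝒳.isStack.1 h𝒴.isStack.1 hC.isStack.1 hf₁))
  -- the comparison morphism
  let e : BasedFunctor.comp (FibCat.fpFst f f) (BasedFunctor.comp f t) ≅
      BasedFunctor.comp (FibCat.fpSnd f f) (BasedFunctor.comp f t) :=
    whiskerRightIso (FibCat.fpIso f f) t
  let c : FibCat.fp f f ⥤ᵇ FibCat.fp (BasedFunctor.comp f t) (BasedFunctor.comp f t) :=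
    FibCat.fpLift (FibCat.fpFst f f) (FibCat.fpSnd f f) e
  have hcart := K743.DiagBC.cmp_isCart f f t e (fun _ => rfl)
  have h1 : AlgSt.IsQuasiCompactMor Scheme.fppfPrecoverage c :=
    Groth.Agent.S12985.result S _ _ _ h𝒳 hD hA (FibCat.diag f) (FibCat.diag (BasedFunctor.comp f t)) c
      (K734.Fib.liftExt (Iso.refl _) (Iso.refl _) (fun x => by
        simp only [K734.Fib.refl_app, Iso.refl_hom]
        change (BasedFunctor.comp f t).map (𝟙 x) ≫ 𝟙 _ = t.map (𝟙 (f.obj x)) ≫ (BasedFunctor.comp f t).map (𝟙 x)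
        simp)) hd hΔ'
  have hE := K740.Inertia.isCart_iff_isEquivOver.1 hcart
  have hF : AlgSt.IsAlgStack Scheme.fppfPrecoverage (FibCat.fp z (FibCat.diag t)) :=
    K742.QC.isAlgStack_fp hA h𝒴 hC z (FibCat.diag t)
  have h2 : AlgSt.IsQuasiCompactMor Scheme.fppfPrecoverage (FibCat.fpFst z (FibCat.diag t)) :=
    Groth.Agent.S12985.result S _ _ _ hD hF hA (FibCat.fpLift c _ (K743.DiagBC.cmpE f f t e (fun _ => rfl))) c
      (FibCat.fpFst z (FibCat.diag t)) (Iso.refl _) (surj_equiv _ hE) h1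
  exact Groth.Agent.S13009.result S _ _ h𝒴 hC (FibCat.diag t) _ hA z (hz nice_flat hf₂) (hz nice_lfp hf₃) hzs h2

end K894.QC
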