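import Groth.Agent.AlgSt.K735.Rep

/-!
# Retracts of representable categories over a scheme (helper894)
-/

set_option autoImplicit false
set_option backward.isDefEq.respectTransparency false
set_option backward.isDefEq.respectTransparency.types false

universe v₃ u₃ v₂ u₂ v u

open CategoryTheory CategoryTheory.Limits AlgebraicGeometry Opposite K735.Fib K735.Fp K735.Rep

namespace K894.RetractSp

variable {S : Scheme.{u}}

/-- `P` descends along split epimorphisms of algebraic spaces on the source. -/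
def RetrStable (P : MorphismProperty (AlgSp.Sp S)) : Prop :=
  ∀ ⦃F G : AlgSp.Sp S⦄ ⦃T : Over S⦄ (ι : F ⟶ G) (ρ : G ⟶ F) (h : F ⟶ (AlgSp.yon S).obj T), AlgSp.IsAlgSpace F →
    AlgSp.IsAlgSpace G → ι ≫ ρ = 𝟙 F → P (ρ ≫ h) → P h

variable {𝒜 : BasedCategory.{v₂, u₂} (Over S)} {ℬ : BasedCategory.{v₃, u₃} (Over S)}

/-- If `𝒜` is a retract of `ℬ` over `(Sch/T)`, `𝒜` is representable by an algebraic space and `ℬ ⟶ (Sch/T)` is
representable with property `P`, then `𝒜 ⟶ (Sch/T)` has `P`. -/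
theorem repOver_of_retract {P : MorphismProperty (AlgSp.Sp S)} (hP : RetrStable P) {T : Over S}
    (p : 𝒜 ⥤ᵇ FibCat.overCat T) (q : ℬ ⥤ᵇ FibCat.overCat T) (i : 𝒜 ⥤ᵇ ℬ) (r : ℬ ⥤ᵇ 𝒜)
    (e : BasedFunctor.comp i r ≅ BasedFunctor.id 𝒜) (e' : BasedFunctor.comp r p ≅ q)
    (hA : AlgSt.RepByAlgSp 𝒜) (hB : RepOver P q) : RepOver P p := by
  obtain ⟨F, a, ha⟩ := hA
  obtain ⟨G, b, hb, hPb⟩ := hB
  obtain ⟨a', ha', ⟨a₁⟩, ⟨a₂⟩⟩ := IsEquivOver.exists_inv ha
  obtain ⟨b', hb', ⟨b₁⟩, ⟨b₂⟩⟩ := IsEquivOver.exists_inv hb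
  refine ⟨F, a, ha, ?_⟩
  obtain ⟨ρe⟩ := exists_iso_spMap (BasedFunctor.comp b (BasedFunctor.comp r a'))
  obtain ⟨ιe⟩ := exists_iso_spMap (BasedFunctor.comp a (BasedFunctor.comp i b'))
  set ρ := spMap (BasedFunctor.comp b (BasedFunctor.comp r a'))
  set ι := spMap (BasedFunctor.comp a (BasedFunctor.comp i b'))
  have h1 : ι ≫ ρ = 𝟙 F.obj := by
    apply ofSpMap_injective
    have t1 : BasedFunctor.comp (AlgSt.ofSpMap ι) (AlgSt.ofSpMap ρ) ≅
        BasedFunctor.comp (BasedFunctor.comp a (BasedFunctor.comp i b')) (BasedFunctor.comp b (BasedFunctor.comp r a')) :=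
      whiskerRightIso ιe.symm _ ≪≫ whiskerLeftIso _ ρe.symm
    have t2 : BasedFunctor.comp (BasedFunctor.comp a (BasedFunctor.comp i b')) (BasedFunctor.comp b (BasedFunctor.comp r a')) ≅
        BasedFunctor.comp (BasedFunctor.comp a i) (BasedFunctor.comp (BasedFunctor.id ℬ) (BasedFunctor.comp r a')) :=
      (whiskerLeftIso (BasedFunctor.comp a i) (whiskerRightIso b₂ (BasedFunctor.comp r a')) :
        BasedFunctor.comp (BasedFunctor.comp a i) (BasedFunctor.comp (BasedFunctor.comp b' b) (BasedFunctor.comp r a')) ≅ _)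
    have t3 : BasedFunctor.comp (BasedFunctor.comp a i) (BasedFunctor.comp (BasedFunctor.id ℬ) (BasedFunctor.comp r a')) ≅
        BasedFunctor.comp a (BasedFunctor.comp (BasedFunctor.id 𝒜) a') :=
      (whiskerLeftIso a (whiskerRightIso e a') :
        BasedFunctor.comp a (BasedFunctor.comp (BasedFunctor.comp i r) a') ≅ _)
    exact t1 ≪≫ t2 ≪≫ t3 ≪≫ a₁
  have h2 : ρ ≫ AlgSt.spMapOfOver (BasedFunctor.comp a p) = AlgSt.spMapOfOver (BasedFunctor.comp b q) := by
    rw [← spMapOfOver_comp_ofSpMap]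
    apply spMapOfOver_eq_of_iso
    have t1 : BasedFunctor.comp (AlgSt.ofSpMap ρ) (BasedFunctor.comp a p) ≅
        BasedFunctor.comp (BasedFunctor.comp b (BasedFunctor.comp r a')) (BasedFunctor.comp a p) :=
      whiskerRightIso ρe.symm _
    have t2 : BasedFunctor.comp (BasedFunctor.comp b (BasedFunctor.comp r a')) (BasedFunctor.comp a p) ≅
        BasedFunctor.comp (BasedFunctor.comp b r) (BasedFunctor.comp (BasedFunctor.id 𝒜) p) :=
      (whiskerLeftIso (BasedFunctor.comp b r) (whiskerRightIso a₂ p) :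
        BasedFunctor.comp (BasedFunctor.comp b r) (BasedFunctor.comp (BasedFunctor.comp a' a) p) ≅ _)
    exact t1 ≪≫ t2 ≪≫ (whiskerLeftIso b e' : BasedFunctor.comp b (BasedFunctor.comp r p) ≅ _)
  exact hP ι ρ _ F.property G.property h1 (h2 ▸ hPb)

end K894.RetractSp
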